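import Groth.Agent.Sga4h.H13.FamFlatDat

/-!
# Splitting of a zero of multiplicity `m` into `m` simple zeros
-/

set_option autoImplicit false
universe u
open CategoryTheory CategoryTheory.Limits AlgebraicGeometry Opposite TensorProduct

namespace Groth.Agent.Sga4h.H13

noncomputable section

variable {k : Type u} [Field k] {d : ℕ}

/-- The point of `Spec R` defined by `s : R → k`. -/
abbrev ptR {R : Type u} [CommRing R] [Algebra k R] (s : R →ₐ[k] k) :
    Spec (CommRingCat.of k) ⟶ Spec (CommRingCat.of R) :=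
  Spec.map (CommRingCat.ofHom s.toRingHom)

theorem ptR_str {R : Type u} [CommRing R] [Algebra k R] (s : R →ₐ[k] k) :
    ptR s ≫ strR k R = 𝟙 _ := by
  rw [← Spec.map_comp, ← CommRingCat.ofHom_comp]
  have : s.toRingHom.comp (algebraMap k R) = RingHom.id k := s.comp_algebraMap
  rw [this]
  exact Spec.map_id _

section

variable {X : Scheme.{u}} (p : X ⟶ Spec (CommRingCat.of k))
  {B : Type u} [CommRing B] [Algebra k B] (j₀ : Spec (CommRingCat.of B) ⟶ X)
  (hj₀ : j₀ ≫ p = strR k B) {R : Type u} [CommRing R] [Algebra k R] (s : R →ₐ[k] k)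

/-- `Spec B ⟶ Spec (R ⊗ B)` at the point `s`. -/
abbrev mapEv (B : Type u) [CommRing B] [Algebra k B] {R : Type u} [CommRing R] [Algebra k R]
    (s : R →ₐ[k] k) : Spec (CommRingCat.of B) ⟶ Spec (CommRingCat.of (R ⊗[k] B)) :=
  Spec.map (CommRingCat.ofHom (FamRing.evS (B := B) s).toRingHom)

theorem fib_jE : j₀ ≫ fib p (strR k R) (ptR s) (ptR_str s) = mapEv B s ≫ jE p j₀ hj₀ R := by
  apply pullback.hom_ext
  · rw [Category.assoc, fib_fst, Category.comp_id, Category.assoc, jE_fst, ← Category.assoc,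
      ← Spec.map_comp, ← CommRingCat.ofHom_comp]
    have h1 : (FamRing.evS (B := B) s).toRingHom.comp
        (Algebra.TensorProduct.includeRight : B →ₐ[k] R ⊗[k] B).toRingHom = RingHom.id B := by
      ext b
      change FamRing.evS s (1 ⊗ₜ b) = b
      simp
    rw [h1]
    exact (congrArg (· ≫ j₀) (Spec.map_id _)).trans (Category.id_comp _) |>.symm
  · rw [Category.assoc, fib_snd, Category.assoc, jE_snd, ← Category.assoc, hj₀, ← Spec.map_comp,
      ← Spec.map_comp, ← CommRingCat.ofHom_comp, ← CommRingCat.ofHom_comp]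
    congr 2
    ext r
    change algebraMap k B (s r) = FamRing.evS s (r ⊗ₜ 1)
    simp

variable (e : R ⊗[k] B) (w : ULift.{u} (Fin d) → R ⊗[k] B)
  [Module.Finite R (Localization.Away e ⧸ idL e w)] [IsSeparated p] [IsOpenImmersion j₀]

/-- The member of the family at `s`. -/
abbrev memL : Dat (fib p (strR k R) (ptR s) (ptR_str s) ≫ pullback.fst p (strR k R) ≫ p) d :=
  (datL p j₀ hj₀ e w).pull (fib p (strR k R) (ptR s) (ptR_str s))

theorem mem_basicOpen_loc {A : Type u} [CommRing A] (e : A) (x : Spec (CommRingCat.of A)) :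
    x ∈ Set.range (Spec.map (CommRingCat.ofHom (algebraMap A (Localization.Away e)))) ↔
      e ∉ x.asIdeal := by
  have h : Set.range (PrimeSpectrum.comap (algebraMap A (Localization.Away e))) =
      PrimeSpectrum.basicOpen e :=
    PrimeSpectrum.localization_away_comap_range (Localization.Away e) e
  change x ∈ Set.range (PrimeSpectrum.comap (algebraMap A (Localization.Away e))) ↔ _
  rw [h]
  rfl

theorem mem_memL_W (z : X) : z ∈ (memL p j₀ hj₀ s e w).W ↔
    ∃ q : Spec (CommRingCat.of B), j₀ q = z ∧ FamRing.evS s e ∉ q.asIdeal := by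
  have hq : ∀ q : Spec (CommRingCat.of B), FamRing.evS s e ∉ q.asIdeal ↔
      mapEv B s q ∈ Set.range (Spec.map (CommRingCat.ofHom
        (algebraMap (R ⊗[k] B) (Localization.Away e)))) := by
    intro q
    rw [mem_basicOpen_loc]
    rfl
  constructor
  · intro hz
    have hz' : fib p (strR k R) (ptR s) (ptR_str s) z ∈ Set.range (jL p j₀ hj₀ e) := hz
    obtain ⟨n, hn⟩ := hz'
    rw [jL, Scheme.Hom.comp_apply] at hn
    set n' := Spec.map (CommRingCat.ofHom (algebraMap (R ⊗[k] B) (Localization.Away e))) n with hn'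
    refine ⟨prB k B R n', ?_, ?_⟩
    · rw [← Scheme.Hom.comp_apply, ← jE_fst p j₀ hj₀ R, Scheme.Hom.comp_apply, hn,
        ← Scheme.Hom.comp_apply, fib_fst]
      rfl
    · rw [hq]
      refine ⟨n, ?_⟩
      rw [← hn']
      apply (jE p j₀ hj₀ R).isOpenEmbedding.injective
      rw [hn, ← Scheme.Hom.comp_apply, ← fib_jE, Scheme.Hom.comp_apply]
      congr 1
      rw [← Scheme.Hom.comp_apply, ← jE_fst p j₀ hj₀ R, Scheme.Hom.comp_apply, hn,
        ← Scheme.Hom.comp_apply, fib_fst]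
      rfl
  · rintro ⟨q, rfl, hq'⟩
    rw [hq] at hq'
    obtain ⟨n, hn⟩ := hq'
    change fib p (strR k R) (ptR s) (ptR_str s) (j₀ q) ∈ Set.range (jL p j₀ hj₀ e)
    refine ⟨n, ?_⟩
    rw [jL, Scheme.Hom.comp_apply, hn, ← Scheme.Hom.comp_apply, ← fib_jE, Scheme.Hom.comp_apply]

omit [Module.Finite R (Localization.Away e ⧸ idL e w)] [IsSeparated p] in
theorem memL_aux (l : (fib p (strR k R) (ptR s) (ptR_str s) ⁻¹ᵁ
      (jL p j₀ hj₀ e).opensRange).toScheme ⟶ Spec (CommRingCat.of B))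
    (hl : l ≫ j₀ = (fib p (strR k R) (ptR s) (ptR_str s) ⁻¹ᵁ (jL p j₀ hj₀ e).opensRange).ι) :
    (fib p (strR k R) (ptR s) (ptR_str s) ∣_ (jL p j₀ hj₀ e).opensRange) ≫
      (jL p j₀ hj₀ e).isoOpensRange.inv ≫ phiL e w =
      l ≫ specHom k (fun i => FamRing.evS s (w i)) := by
  have h1 : ((fib p (strR k R) (ptR s) (ptR_str s) ∣_ (jL p j₀ hj₀ e).opensRange) ≫
      (jL p j₀ hj₀ e).isoOpensRange.inv) ≫ jL p j₀ hj₀ e = (fib p (strR k R) (ptR s) (ptR_str s) ⁻¹ᵁ
      (jL p j₀ hj₀ e).opensRange).ι ≫ fib p (strR k R) (ptR s) (ptR_str s) := by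
    simp only [Category.assoc, Scheme.Hom.isoOpensRange_inv_comp, morphismRestrict_ι]
  rw [← Category.assoc]
  generalize (fib p (strR k R) (ptR s) (ptR_str s) ∣_ (jL p j₀ hj₀ e).opensRange) ≫
      (jL p j₀ hj₀ e).isoOpensRange.inv = n at h1 ⊢
  have h2 : n ≫ Spec.map (CommRingCat.ofHom (algebraMap (R ⊗[k] B) (Localization.Away e))) =
      l ≫ mapEv B s := by
    rw [← cancel_mono (jE p j₀ hj₀ R), Category.assoc, Category.assoc, ← fib_jE, reassoc_of% hl]
    exact h1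
  rw [phiL_eq, ← Category.assoc, h2, Category.assoc]
  exact congrArg (l ≫ ·) (comp_specHom (FamRing.evS s) w)

theorem memL_Φ (l : (memL p j₀ hj₀ s e w).W.toScheme ⟶ Spec (CommRingCat.of B))
    (hl : l ≫ j₀ = (memL p j₀ hj₀ s e w).W.ι) :
    (memL p j₀ hj₀ s e w).Φ = l ≫ specHom k (fun i => FamRing.evS s (w i)) :=
  memL_aux p j₀ hj₀ s e w l hl

end

/-- Affine integral charts at a point with étale coordinates. -/
theorem exists_chart {X : Scheme.{u}} (p : X ⟶ Spec (CommRingCat.of k)) (N : X.Opens)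
    (t : N.toScheme ⟶ Aff k d) [Etale t] (ht : t ≫ Aff.str k d = N.ι ≫ p) (x : N) :
    ∃ (B : Type u) (_ : CommRing B) (_ : Algebra k B) (_ : IsDomain B)
      (j : Spec (CommRingCat.of B) ⟶ N.toScheme) (_ : IsOpenImmersion j)
      (x₀ : Spec (CommRingCat.of B)), j x₀ = x ∧ j ≫ N.ι ≫ p = strR k B := by
  obtain ⟨B₁, j₁, _, y₁, hy₁⟩ := N.toScheme.exists_Spec_apply_eq x
  obtain ⟨φ, hφ⟩ := Spec.map_surjective (j₁ ≫ N.ι ≫ p)
  let _ : Algebra k B₁ := φ.hom.toAlgebra
  have hφ' : j₁ ≫ t ≫ Aff.str k d = strR k B₁ := by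
    rw [ht, ← hφ]
    rfl
  have het : Etale (j₁ ≫ t) := inferInstance
  rw [eq_specHom (B := B₁) (j₁ ≫ t) (by rw [Category.assoc, hφ'])] at het
  have hreg : IsRegularRing B₁ :=
    FamFlat.isRegularRing_of_etale _ (etale_aeval_of_specHom _ het)
  have hprime : y₁.asIdeal.IsPrime := y₁.isPrime
  obtain ⟨g, hg, hdom⟩ := UnramB.SmoothCrit.exists_away_isDomain (N := B₁) y₁.asIdeal
    (CalgA.RegBasic.isDomain _)
  have hy₁' : y₁ ∈ Set.range (Spec.map (CommRingCat.ofHom (algebraMap B₁ (Localization.Away g)))) :=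
    (mem_basicOpen_loc (A := B₁) g y₁).2 hg
  obtain ⟨x₀, hx₀⟩ := hy₁'
  have hopen : IsOpenImmersion (Spec.map (CommRingCat.ofHom (algebraMap B₁ (Localization.Away g)))) :=
    inferInstance
  refine ⟨Localization.Away g, inferInstance, inferInstance, hdom,
    Spec.map (CommRingCat.ofHom (algebraMap B₁ (Localization.Away g))) ≫ j₁, inferInstance, x₀, ?_, ?_⟩
  · rw [Scheme.Hom.comp_apply, hx₀, hy₁]
  · rw [Category.assoc, ← hφ]
    change Spec.map (CommRingCat.ofHom (algebraMap B₁ (Localization.Away g))) ≫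
      Spec.map (CommRingCat.ofHom (algebraMap k B₁)) = _
    rw [← Spec.map_comp, ← CommRingCat.ofHom_comp]

section

variable {X : Scheme.{u}} (p : X ⟶ Spec (CommRingCat.of k))
  {B : Type u} [CommRing B] [Algebra k B] (N : X.Opens) (j : Spec (CommRingCat.of B) ⟶ N.toScheme)
  [IsOpenImmersion j] (hj : (j ≫ N.ι) ≫ p = strR k B) {R : Type u} [CommRing R] [Algebra k R]
  (s : R →ₐ[k] k) (e : R ⊗[k] B) (w : ULift.{u} (Fin d) → R ⊗[k] B)
  [Module.Finite R (Localization.Away e ⧸ idL e w)] [IsSeparated p]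

theorem memL_le : (memL p (j ≫ N.ι) hj s e w).W ≤ N := by
  intro z hz
  obtain ⟨q, rfl, -⟩ := (mem_memL_W p (j ≫ N.ι) hj s e w z).1 hz
  rw [Scheme.Hom.comp_apply]
  exact (j q).2

theorem memL_exists_lift : ∃ l : (memL p (j ≫ N.ι) hj s e w).W.toScheme ⟶ Spec (CommRingCat.of B),
    l ≫ j ≫ N.ι = (memL p (j ≫ N.ι) hj s e w).W.ι := by
  refine ⟨IsOpenImmersion.lift (j ≫ N.ι) (memL p (j ≫ N.ι) hj s e w).W.ι ?_,
    IsOpenImmersion.lift_fac _ _ _⟩
  rintro _ ⟨z, rfl⟩
  obtain ⟨q, hq, -⟩ := (mem_memL_W p (j ≫ N.ι) hj s e w _).1 z.2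
  exact ⟨q, hq⟩

theorem memL_Of (ψ : N.toScheme ⟶ Aff k d)
    (hψ : j ≫ ψ = specHom k (fun i => FamRing.evS s (w i))) :
    (memL p (j ≫ N.ι) hj s e w).Of N ψ := by
  refine ⟨memL_le p N j hj s e w, ?_⟩
  obtain ⟨l, hl⟩ := memL_exists_lift p N j hj s e w
  rw [memL_Φ p (j ≫ N.ι) hj s e w l hl, ← hψ]
  have h1 : l ≫ j = X.homOfLE (memL_le p N j hj s e w) := by
    rw [← cancel_mono N.ι, Category.assoc, hl, Scheme.homOfLE_ι]
  exact (Category.assoc _ _ _).symm.trans (congrArg (· ≫ ψ) h1)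

/-- A member étale at its zeros. -/
theorem memL_etale (v : ULift.{u} (Fin d) → B) (hv : ∀ i, FamRing.evS s (w i) = v i) (δ : B)
    (hδ : ∀ Q : Ideal B, Q.IsPrime → FamRing.evS s e ∉ Q → (∀ i, v i ∈ Q) → δ ∉ Q)
    (het : Etale (Spec.map (CommRingCat.ofHom (algebraMap B (Localization.Away δ))) ≫
      specHom k v)) :
    ∃ (O : X.Opens) (h : O ≤ (memL p (j ≫ N.ι) hj s e w).W),
      (memL p (j ≫ N.ι) hj s e w).Z ⊆ O ∧ Etale (X.homOfLE h ≫ (memL p (j ≫ N.ι) hj s e w).Φ) := by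
  obtain ⟨l, hl⟩ := memL_exists_lift p N j hj s e w
  have hΦ := memL_Φ p (j ≫ N.ι) hj s e w l hl
  have hv' : (fun i => FamRing.evS s (w i)) = v := funext hv
  rw [hv'] at hΦ
  have hloc : IsOpenImmersion (Spec.map (CommRingCat.ofHom (algebraMap B (Localization.Away δ)))) :=
    inferInstance
  let jδ := Spec.map (CommRingCat.ofHom (algebraMap B (Localization.Away δ))) ≫ j ≫ N.ι
  refine ⟨jδ.opensRange ⊓ (memL p (j ≫ N.ι) hj s e w).W, inf_le_right, ?_, ?_⟩
  · rintro _ ⟨z, hz, rfl⟩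
    refine ⟨?_, z.2⟩
    change _ ∈ Set.range jδ
    have h1 : (j ≫ N.ι) (l z) = (memL p (j ≫ N.ι) hj s e w).W.ι z := by
      rw [← Scheme.Hom.comp_apply, hl]
    obtain ⟨q, hq, heq⟩ := (mem_memL_W p (j ≫ N.ι) hj s e w _).1 z.2
    have hql : q = l z := (j ≫ N.ι).isOpenEmbedding.injective (hq.trans h1.symm)
    have h2 : l z ∈ zeros (specHom k v) := by
      change (specHom k v) (l z) ∈ Set.range (origin k d)
      rw [← Scheme.Hom.comp_apply, ← hΦ]
      exact hz
    rw [mem_zeros_specHom] at h2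
    have h3 : δ ∉ (l z).asIdeal := hδ _ (l z).isPrime (by rw [← hql]; exact heq) h2
    obtain ⟨n, hn⟩ := (mem_basicOpen_loc (A := B) δ (l z)).2 h3
    refine ⟨n, ?_⟩
    rw [Scheme.Hom.comp_apply, hn, h1]
  · have hr : Set.range (jδ.opensRange ⊓ (memL p (j ≫ N.ι) hj s e w).W).ι ⊆ Set.range jδ := by
      rw [Scheme.Opens.range_ι]
      exact fun z hz => hz.1
    let l' := IsOpenImmersion.lift jδ (jδ.opensRange ⊓ (memL p (j ≫ N.ι) hj s e w).W).ι hr
    have hl' : l' ≫ jδ = (jδ.opensRange ⊓ (memL p (j ≫ N.ι) hj s e w).W).ι :=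
      IsOpenImmersion.lift_fac _ _ _
    have hl'o : IsOpenImmersion l' := by
      have : IsOpenImmersion (l' ≫ jδ) := by
        rw [hl']
        infer_instance
      exact IsOpenImmersion.of_comp l' jδ
    have h4 : X.homOfLE (inf_le_right : jδ.opensRange ⊓ (memL p (j ≫ N.ι) hj s e w).W ≤ _) ≫ l =
        l' ≫ Spec.map (CommRingCat.ofHom (algebraMap B (Localization.Away δ))) := by
      rw [← cancel_mono (j ≫ N.ι), Category.assoc, hl, Scheme.homOfLE_ι, Category.assoc]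
      exact hl'.symm
    have h5 : X.homOfLE (inf_le_right : jδ.opensRange ⊓ (memL p (j ≫ N.ι) hj s e w).W ≤ _) ≫
        l ≫ specHom k v = l' ≫ Spec.map (CommRingCat.ofHom (algebraMap B (Localization.Away δ))) ≫
          specHom k v :=
      (Category.assoc _ _ _).symm.trans ((congrArg (· ≫ specHom k v) h4).trans (Category.assoc _ _ _))
    rw [hΦ, h5]
    infer_instance

end

/-- **(a)** Splitting of a zero of multiplicity `m` into `m` simple zeros. -/
theorem stmtA (k : Type u) [Field k] [IsAlgClosed k] : StmtA k := by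
  intro X p _ d N t ψ _ ht hψ x hx
  obtain ⟨B, _, _, _, j, _, x₀, hx₀, hj⟩ := exists_chart p N t ht x
  have hj' : (j ≫ N.ι) ≫ p = strR k B := by rw [Category.assoc, hj]
  obtain ⟨t', ht'⟩ : ∃ t' : ULift.{u} (Fin d) → B, j ≫ t = specHom k t' :=
    ⟨_, eq_specHom _ (by rw [Category.assoc, ht, hj])⟩
  obtain ⟨v', hv'⟩ : ∃ v' : ULift.{u} (Fin d) → B, j ≫ ψ = specHom k v' :=
    ⟨_, eq_specHom _ (by rw [Category.assoc, hψ, hj])⟩
  have het : Etale (specHom k t') := by
    rw [← ht']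
    infer_instance
  let gt : MvPolynomial (ULift.{u} (Fin d)) k →ₐ[k] B := MvPolynomial.aeval t'
  have hgt : gt.toRingHom.Etale := etale_aeval_of_specHom t' het
  have hgt' : ∀ i, gt (MvPolynomial.X i) = t' i := fun i => MvPolynomial.aeval_X _ _
  obtain ⟨b, hb⟩ := FamJac.exists_basis gt hgt
  -- the ideal of `x`
  have hzero : ∀ q : Spec (CommRingCat.of B), (∀ i, v' i ∈ q.asIdeal) ↔ q = x₀ := by
    intro q
    rw [← mem_zeros_specHom (k := k), ← hv']
    change (j ≫ ψ) q ∈ Set.range (origin k d) ↔ _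
    rw [Scheme.Hom.comp_apply]
    have h1 : j q ∈ zeros ψ ↔ j q = x := by
      rw [hx]
      exact Iff.rfl
    refine h1.trans ?_
    rw [← hx₀]
    exact ⟨fun h => j.isOpenEmbedding.injective h, fun h => by rw [h]⟩
  have hprime : x₀.asIdeal.IsPrime := x₀.isPrime
  have hpM : ∀ i, v' i ∈ x₀.asIdeal := (hzero x₀).2 rfl
  have hM : ∀ Q : Ideal B, Q.IsPrime → (∀ i, v' i ∈ Q) → Q = x₀.asIdeal := by
    intro Q hQ h
    have := (hzero (⟨Q, hQ⟩ : PrimeSpectrum B)).1 h
    exact congrArg PrimeSpectrum.asIdeal this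
  have hmax : x₀.asIdeal.IsMaximal := by
    obtain ⟨m, hm, hle⟩ := Ideal.exists_le_maximal _ hprime.ne_top
    rw [← hM m hm.isPrime (fun i => hle (hpM i))]
    exact hm
  obtain ⟨R, _, _, _, _, lam, c, s₀, s₁, e, hlam, hc, he, hfin, hflat, hdet⟩ :=
    FamRing.exists_family gt hgt b hb v' x₀.asIdeal hpM hM
  let w : ULift.{u} (Fin d) → R ⊗[k] B := FamRing.eqn (fun i => gt (MvPolynomial.X i)) v' lam c
  have hid : idL e w = (FamRing.eqI (fun i => gt (MvPolynomial.X i)) v' lam c).map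
      (algebraMap (R ⊗[k] B) (Localization.Away e)) := idL_eq e w
  rw [← hid] at hfin hflat
  have hnoeth : IsNoetherianRing R := Algebra.FiniteType.isNoetherianRing k R
  have hconn : ConnectedSpace (Spec (CommRingCat.of R)) :=
    inferInstanceAs (ConnectedSpace (PrimeSpectrum R))
  have hlft : LocallyOfFiniteType (strR k R) := by
    rw [HasRingHomProperty.Spec_iff (P := @LocallyOfFiniteType)]
    exact RingHom.finiteType_algebraMap.mpr ‹_›
  let v₁ : ULift.{u} (Fin d) → B := fun i => v' i + algebraMap k B (s₁ lam) * gt (MvPolynomial.X i) -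
          algebraMap k B (s₁ (c i))
  have hw : ∀ s : R →ₐ[k] k, ∀ i, FamRing.evS s (w i) = v' i + algebraMap k B (s lam) *
      gt (MvPolynomial.X i) - algebraMap k B (s (c i)) := by
    intro s i
    simp [w, FamRing.eqn]
  have hw₀ : (fun i => FamRing.evS s₀ (w i)) = v' := by
    ext i
    rw [hw, hlam, hc, map_zero, zero_mul, add_zero, sub_zero]
  have hOf : (memL p (j ≫ N.ι) hj' s₀ e w).Of N ψ := memL_Of p N j hj' s₀ e w ψ (by rw [hw₀, hv'])
  have hxW : (x : X) ∈ (memL p (j ≫ N.ι) hj' s₀ e w).W := by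
    rw [mem_memL_W]
    refine ⟨x₀, ?_, he⟩
    rw [Scheme.Hom.comp_apply, hx₀]
    rfl
  obtain ⟨O, hO, hZO, hOet⟩ := memL_etale p N j hj' s₁ e w v₁ (hw s₁) (FamJac.jac b v₁).det hdet (by
    change Etale (Spec.map (CommRingCat.ofHom
      (IsScalarTower.toAlgHom k B (Localization.Away (FamJac.jac b v₁).det)).toRingHom) ≫ _)
    rw [comp_specHom (IsScalarTower.toAlgHom k B (Localization.Away (FamJac.jac b v₁).det)) v₁]
    apply etale_specHom
    have h1 := FamJac.etale_of_isUnit_det gt hgt b v₁ (FamJac.jac b v₁).det dvd_rfl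
      (Localization.Away (FamJac.jac b v₁).det)
    rwa [MvPolynomial.comp_aeval] at h1)
  have hfm := finite_member p (strR k R) (datL p (j ≫ N.ι) hj' e w) (ptR s₁) (ptR_str s₁)
  obtain ⟨y, hyinj, hyZ⟩ := exists_points (memL p (j ≫ N.ι) hj' s₁ e w) O hO hZO hOet
  have hmult : mult (memL p (j ≫ N.ι) hj' s₁ e w).Φ = mult ψ := by
    rw [← mult_member_eq p (strR k R) (datL p (j ≫ N.ι) hj' e w) (ptR s₀) (ptR s₁) (ptR_str s₀)
      (ptR_str s₁)]
    obtain ⟨h1, h2⟩ := hOf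
    refine (congrArg mult h2).trans (mult_comp (X.homOfLE h1) ψ ?_)
    intro z hz
    rw [hx] at hz
    have hz' : z = x := hz
    rw [hz']
    exact mem_range_homOfLE h1 x hxW
  refine ⟨Spec (CommRingCat.of R), strR k R, hlft, hconn, datL p (j ≫ N.ι) hj' e w, ptR s₀, ptR s₁,
    ptR_str s₀, ptR_str s₁, hxW, hOf, memL_le p N j hj' s₁ e w, ?_⟩
  rw [← hmult]
  refine ⟨y, hyinj, hyZ, fun i => ⟨O, hO, ?_, hOet⟩⟩
  exact hZO (by rw [hyZ]; exact ⟨i, rfl⟩)

end

end Groth.Agent.Sga4h.H13
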