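import Groth.Agent.Sga4h.H13.FamRing4
import Mathlib.RingTheory.Support
import Mathlib.RingTheory.Unramified.Field
import Mathlib.LinearAlgebra.Determinant

/-!
# Two systems of étale coordinates at a point
-/

set_option autoImplicit false
universe u

open TensorProduct KaehlerDifferential

namespace Groth.Agent.Sga4h.H13.FamRingB

open FamRing

variable {k : Type u} [Field k] {B : Type u} [CommRing B] [Algebra k B] {σ : Type u}

/-- An unramified algebra over a field, near a maximal ideal. -/
theorem exists_mul_eq_zero {A : Type u} [CommRing A] [Algebra k A] [Algebra.EssFiniteType k A]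
    [Algebra.FormallyUnramified k A] [IsNoetherianRing A] (Q : Ideal A) [Q.IsPrime] :
    ∃ g ∉ Q, ∀ y ∈ Q, g * y = 0 := by
  have h0 : Algebra.FormallyUnramified A (Localization.AtPrime Q) :=
    .of_isLocalization Q.primeCompl
  have h1 : Algebra.FormallyUnramified k (Localization.AtPrime Q) :=
    .comp k A (Localization.AtPrime Q)
  have h2 : Algebra.EssFiniteType A (Localization.AtPrime Q) :=
    .of_isLocalization _ Q.primeCompl
  have h3 : Algebra.EssFiniteType k (Localization.AtPrime Q) := .comp k A _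
  have := Algebra.FormallyUnramified.finite_of_free k (Localization.AtPrime Q)
  have hF : IsField (Localization.AtPrime Q) :=
    have := IsArtinianRing.of_finite k (Localization.AtPrime Q)
    have := Algebra.FormallyUnramified.isReduced_of_field k (Localization.AtPrime Q)
    IsArtinianRing.isField_of_isReduced_of_isLocalRing _
  have hm : IsLocalRing.maximalIdeal (Localization.AtPrime Q) = ⊥ :=
    IsLocalRing.isField_iff_maximalIdeal_eq.mp hF
  have key : ∀ m : Q, ∃ r ∉ (⟨Q, inferInstance⟩ : PrimeSpectrum A).asIdeal, r • m = 0 := by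
    rintro ⟨m, hmQ⟩
    have h4 : algebraMap A (Localization.AtPrime Q) m = 0 := by
      have h5 : algebraMap A (Localization.AtPrime Q) m ∈
          IsLocalRing.maximalIdeal (Localization.AtPrime Q) :=
        (IsLocalization.AtPrime.to_map_mem_maximal_iff (Localization.AtPrime Q) Q m).2 hmQ
      rw [hm] at h5
      exact h5
    obtain ⟨r, hr⟩ := (IsLocalization.map_eq_zero_iff Q.primeCompl _ m).1 h4
    exact ⟨r, r.2, Subtype.ext hr⟩
  have h6 : (⟨Q, inferInstance⟩ : PrimeSpectrum A) ∉ Module.support A Q :=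
    Module.notMem_support_iff'.2 key
  rw [Module.mem_support_iff_of_finite, SetLike.not_le_iff_exists] at h6
  obtain ⟨g, hg, hgQ⟩ := h6
  refine ⟨g, hgQ, fun y hy => ?_⟩
  have := Module.mem_annihilator.1 hg ⟨y, hy⟩
  exact congrArg Subtype.val this

theorem finiteType_of_etale [Finite σ] (t : σ → B)
    (ht : (MvPolynomial.aeval t : MvPolynomial σ k →ₐ[k] B).toRingHom.Etale) :
    Algebra.FiniteType k B := by
  algebraize [(MvPolynomial.aeval t : MvPolynomial σ k →ₐ[k] B).toRingHom]
  have : Algebra.Etale (MvPolynomial σ k) B := ht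
  have : IsScalarTower k (MvPolynomial σ k) B :=
    IsScalarTower.of_algebraMap_eq fun r =>
      ((MvPolynomial.aeval t : MvPolynomial σ k →ₐ[k] B).commutes r).symm
  exact Algebra.FiniteType.trans (S := MvPolynomial σ k) inferInstance inferInstance

/-- The zero scheme of étale coordinates is unramified. -/
theorem formallyUnramified_quotient (t : σ → B)
    (ht : (MvPolynomial.aeval t : MvPolynomial σ k →ₐ[k] B).toRingHom.Etale) :
    Algebra.FormallyUnramified k (B ⧸ Ideal.span (Set.range t)) := by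
  let I : Ideal B := Ideal.span (Set.range t)
  let gt : MvPolynomial σ k →ₐ[k] B := MvPolynomial.aeval t
  algebraize [gt.toRingHom]
  have hB : Algebra.Etale (MvPolynomial σ k) B := ht
  have : IsScalarTower k (MvPolynomial σ k) B :=
    IsScalarTower.of_algebraMap_eq fun r => (gt.commutes r).symm
  change Algebra.FormallyUnramified k (B ⧸ I)
  have h1 : Algebra.FormallyUnramified B (B ⧸ I) :=
    Algebra.FormallyUnramified.of_surjective (Algebra.ofId B (B ⧸ I))
      Ideal.Quotient.mk_surjective
  have h2 : Algebra.FormallyUnramified (MvPolynomial σ k) (B ⧸ I) :=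
    Algebra.FormallyUnramified.comp _ B _
  rw [Algebra.formallyUnramified_iff]
  have h3 : Subsingleton (Ω[(B ⧸ I)⁄(MvPolynomial σ k)]) := inferInstance
  have h4 : ∀ x : Ω[(B ⧸ I)⁄k], x = 0 := by
    intro x
    have h6 : x ∈ LinearMap.range (KaehlerDifferential.mapBaseChange k (MvPolynomial σ k) (B ⧸ I)) := by
      have h7 := (KaehlerDifferential.exact_mapBaseChange_map k (MvPolynomial σ k) (B ⧸ I)) x
      rw [LinearMap.mem_range]
      exact h7.1 (Subsingleton.elim _ _)
    obtain ⟨y, rfl⟩ := h6
    have h9 : KaehlerDifferential.mapBaseChange k (MvPolynomial σ k) (B ⧸ I) = 0 := by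
      refine ((mvPolynomialBasis k σ).baseChange (B ⧸ I)).ext fun i => ?_
      rw [Module.Basis.baseChange_apply, mvPolynomialBasis_apply, mapBaseChange_tmul, one_smul,
        KaehlerDifferential.map_D, LinearMap.zero_apply]
      have h10 : algebraMap (MvPolynomial σ k) (B ⧸ I) (MvPolynomial.X i) = 0 := by
        change Ideal.Quotient.mk I (gt (MvPolynomial.X i)) = 0
        rw [Ideal.Quotient.eq_zero_iff_mem]
        simp only [gt, MvPolynomial.aeval_X]
        exact Ideal.subset_span ⟨i, rfl⟩
      rw [h10, map_zero]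
    rw [h9, LinearMap.zero_apply]
  exact ⟨fun a b => (h4 a).trans (h4 b).symm⟩

/-- Étale coordinates vanishing at a point generate the maximal ideal, locally. -/
theorem exists_mul_mem_span (t : σ → B) [Finite σ]
    (ht : (MvPolynomial.aeval t : MvPolynomial σ k →ₐ[k] B).toRingHom.Etale)
    (M : Ideal B) [M.IsPrime] (htM : ∀ i, t i ∈ M) :
    ∃ g ∉ M, ∀ m ∈ M, g * m ∈ Ideal.span (Set.range t) := by
  let I : Ideal B := Ideal.span (Set.range t)
  have hI : I ≤ M := by
    rw [Ideal.span_le]
    rintro _ ⟨i, rfl⟩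
    exact htM i
  have hft : Algebra.FiniteType k B := finiteType_of_etale t ht
  have hnoeth : IsNoetherianRing B := Algebra.FiniteType.isNoetherianRing k B
  have hunr : Algebra.FormallyUnramified k (B ⧸ I) := formallyUnramified_quotient t ht
  have hMI : (M.map (Ideal.Quotient.mk I)).IsPrime :=
    Ideal.map_isPrime_of_surjective Ideal.Quotient.mk_surjective (by rwa [Ideal.mk_ker])
  have hft' : Algebra.FiniteType k (B ⧸ I) := inferInstance
  obtain ⟨g', hg', hg0⟩ := exists_mul_eq_zero (k := k) (M.map (Ideal.Quotient.mk I))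
  obtain ⟨g, rfl⟩ := Ideal.Quotient.mk_surjective g'
  refine ⟨g, fun h => hg' (Ideal.mem_map_of_mem _ h), fun m hm => ?_⟩
  have := hg0 _ (Ideal.mem_map_of_mem _ hm)
  rw [← map_mul, Ideal.Quotient.eq_zero_iff_mem] at this
  exact this

/-- A prime generated by étale coordinates is maximal. -/
theorem isMaximal_of_span (t : σ → B) [Finite σ]
    (ht : (MvPolynomial.aeval t : MvPolynomial σ k →ₐ[k] B).toRingHom.Etale)
    (M : Ideal B) [hM : M.IsPrime] (htM : ∀ i, t i ∈ M)
    (hspan : ∀ m ∈ M, m ∈ Ideal.span (Set.range t)) : M.IsMaximal := by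
  have hI : Ideal.span (Set.range t) = M := by
    refine le_antisymm ?_ hspan
    rw [Ideal.span_le]
    rintro _ ⟨i, rfl⟩
    exact htM i
  subst hI
  have hft : Algebra.FiniteType k B := finiteType_of_etale t ht
  have hunr := formallyUnramified_quotient t ht
  have hfin : Module.Finite k (B ⧸ Ideal.span (Set.range t)) :=
    Algebra.FormallyUnramified.finite_of_free k _
  have hdom : IsDomain (B ⧸ Ideal.span (Set.range t)) := inferInstance
  have hf : IsField (B ⧸ Ideal.span (Set.range t)) :=
    isField_of_isIntegral_of_isField' (Field.toIsField k)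
  exact Ideal.Quotient.maximal_of_isField _ hf

theorem det_notMem [Fintype σ] [DecidableEq σ] (t t' : σ → B)
    (ht : (MvPolynomial.aeval t : MvPolynomial σ k →ₐ[k] B).toRingHom.Etale)
    (ht' : (MvPolynomial.aeval t' : MvPolynomial σ k →ₐ[k] B).toRingHom.Etale)
    (M : Ideal B) [M.IsPrime] (htM : ∀ i, t i ∈ M) (a : Matrix σ σ B)
    (ha : ∀ i, t' i = ∑ j, a i j * t j) : a.det ∉ M := by
  obtain ⟨b, hb⟩ := FamJac.exists_basis _ ht
  obtain ⟨b', hb'⟩ := FamJac.exists_basis _ ht'
  simp only [MvPolynomial.aeval_X] at hb hb'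
  have hu : IsUnit (FamJac.jac b t').det := by
    have h1 : (FamJac.jac b t').det = b.det b' := by
      rw [Module.Basis.det_apply, ← Matrix.det_transpose]
      congr 1
      ext i j
      rw [Matrix.transpose_apply, FamJac.jac_apply, Module.Basis.toMatrix_apply, hb']
    rw [h1]
    exact b.isUnit_det b'
  have hmap : (FamJac.jac b t').map (Ideal.Quotient.mk M) = a.map (Ideal.Quotient.mk M) := by
    ext i j
    rw [Matrix.map_apply, Matrix.map_apply, FamJac.jac_apply, Ideal.Quotient.eq, ha, map_sum,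
      map_sum, Finsupp.finsetSum_apply]
    have h2 : ∀ l, b.repr (D k B (a i l * t l)) j = (if l = j then a i l else 0) +
        t l * b.repr (D k B (a i l)) j := by
      intro l
      rw [Derivation.leibniz, map_add, map_smul, map_smul, Finsupp.add_apply, Finsupp.smul_apply,
        Finsupp.smul_apply, ← hb l, Module.Basis.repr_self, Finsupp.single_apply, smul_eq_mul,
        smul_eq_mul, mul_ite, mul_one, mul_zero]
    simp only [h2]
    rw [Finset.sum_add_distrib, Finset.sum_ite_eq' Finset.univ j (fun l => a i l),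
      if_pos (Finset.mem_univ j), add_sub_cancel_left]
    exact M.sum_mem fun l _ => M.mul_mem_right _ (htM l)
  intro hcon
  have h3 : Ideal.Quotient.mk M (FamJac.jac b t').det = 0 := by
    rw [RingHom.map_det]
    change ((FamJac.jac b t').map (Ideal.Quotient.mk M)).det = 0
    rw [hmap]
    change ((Ideal.Quotient.mk M).mapMatrix a).det = 0
    rw [← RingHom.map_det, Ideal.Quotient.eq_zero_iff_mem]
    exact hcon
  rw [Ideal.Quotient.eq_zero_iff_mem] at h3
  exact (inferInstance : M.IsPrime).ne_top (M.eq_top_of_isUnit_mem h3 hu)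

section Fam

variable {R : Type u} [CommRing R] [Algebra k R] (μ : R) (t t' : σ → B)

/-- `(1 - μ) t + μ t'` -/
noncomputable def ww (i : σ) : R ⊗[k] B := (1 - μ) ⊗ₜ t i + μ ⊗ₜ t' i

/-- `(1 - μ) + μ a` -/
noncomputable def mm [DecidableEq σ] [Fintype σ] (a : Matrix σ σ B) : Matrix σ σ (R ⊗[k] B) :=
  Matrix.scalar σ ((1 - μ) ⊗ₜ[k] (1 : B)) + a.map (fun x => μ ⊗ₜ[k] x)

variable [DecidableEq σ] [Fintype σ]

theorem mm_mulVec (a : Matrix σ σ B) (ha : ∀ i, t' i = ∑ j, a i j * t j) :
    (mm (k := k) μ a).mulVec (fun j => 1 ⊗ₜ t j) = ww μ t t' := by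
  ext i
  rw [mm, Matrix.add_mulVec, Pi.add_apply, Matrix.scalar_apply, Matrix.mulVec_diagonal, ww, ha i]
  congr 1
  · rw [Algebra.TensorProduct.tmul_mul_tmul, mul_one, one_mul]
  · rw [Matrix.mulVec, dotProduct, TensorProduct.tmul_sum]
    refine Finset.sum_congr rfl fun j _ => ?_
    rw [Matrix.map_apply, Algebra.TensorProduct.tmul_mul_tmul, mul_one]

/-- `R ⊗ B → R` at a point of `B` -/
noncomputable def thetaB (R : Type u) [CommRing R] [Algebra k R] (ev : B →ₐ[k] k) :
    R ⊗[k] B →ₐ[R] R :=
  Algebra.TensorProduct.lift (AlgHom.id R R) ((Algebra.ofId k R).comp ev) (fun _ _ => .all _ _)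

theorem thetaB_tmul (ev : B →ₐ[k] k) (r : R) (x : B) :
    thetaB R ev (r ⊗ₜ x) = r * algebraMap k R (ev x) := by
  simp [thetaB, Algebra.ofId_apply]

theorem surjective_algebraMap (a : Matrix σ σ B) (ha : ∀ i, t' i = ∑ j, a i j * t j)
    (ev : B →ₐ[k] k) (hspan : ∀ m, ev m = 0 → m ∈ Ideal.span (Set.range t))
    (hu : IsUnit (thetaB R ev (mm (k := k) μ a).det)) :
    Function.Surjective (algebraMap R (Localization.Away (mm (k := k) μ a).det ⧸
      Ideal.span (Set.range (fun i => algebraMap (R ⊗[k] B) (Localization.Away (mm (k := k) μ a).det)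
        (ww μ t t' i))))) := by
  set e := (mm (k := k) μ a).det with he
  set J := Ideal.span (Set.range (fun i => algebraMap (R ⊗[k] B) (Localization.Away e)
        (ww μ t t' i))) with hJ
  let f : R ⊗[k] B →+* (Localization.Away e ⧸ J) :=
    (Ideal.Quotient.mk J).comp (algebraMap (R ⊗[k] B) (Localization.Away e))
  have hfe : IsUnit (f e) :=
    (IsLocalization.Away.algebraMap_isUnit (S := Localization.Away e) e).map (Ideal.Quotient.mk J)
  have hfw : ∀ i, f (ww μ t t' i) = 0 := fun i =>
    Ideal.Quotient.eq_zero_iff_mem.2 (Ideal.subset_span ⟨i, rfl⟩)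
  have hft : ∀ j, f (1 ⊗ₜ t j) = 0 := by
    intro j
    have h1 : ((mm (k := k) μ a).adjugate.mulVec (ww μ t t')) j = e * (1 ⊗ₜ t j) := by
      rw [← mm_mulVec μ t t' a ha, Matrix.mulVec_mulVec, Matrix.adjugate_mul, Matrix.smul_mulVec,
        Matrix.one_mulVec, Pi.smul_apply, smul_eq_mul]
    have h2 : f ((mm (k := k) μ a).adjugate.mulVec (ww μ t t') j) = 0 := by
      rw [Matrix.mulVec, dotProduct, map_sum]
      refine Finset.sum_eq_zero fun i _ => ?_
      rw [map_mul, hfw, mul_zero]
    rw [h1, map_mul] at h2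
    exact (hfe.mul_right_eq_zero).mp h2
  have hfm : ∀ m, ev m = 0 → f (1 ⊗ₜ m) = 0 := by
    intro m hm
    have h1 : Ideal.span (Set.range t) ≤
        RingHom.ker (f.comp (Algebra.TensorProduct.includeRight : B →ₐ[k] R ⊗[k] B).toRingHom) := by
      rw [Ideal.span_le]
      rintro _ ⟨j, rfl⟩
      exact hft j
    exact h1 (hspan m hm)
  have hf : ∀ x, f x = algebraMap R _ (thetaB R ev x) := by
    intro x
    induction x using TensorProduct.induction_on with
    | zero => rw [map_zero, map_zero, map_zero]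
    | add x y hx hy => rw [map_add, map_add, map_add, hx, hy]
    | tmul r x =>
      have h1 : (r ⊗ₜ[k] x : R ⊗[k] B) = (r * algebraMap k R (ev x)) ⊗ₜ 1 +
          (r ⊗ₜ 1) * (1 ⊗ₜ (x - algebraMap k B (ev x))) := by
        rw [Algebra.TensorProduct.tmul_mul_tmul, mul_one, one_mul, TensorProduct.tmul_sub,
          mul_comm r, ← Algebra.smul_def, Algebra.algebraMap_eq_smul_one, TensorProduct.tmul_smul,
          TensorProduct.smul_tmul', add_sub_cancel]
      rw [h1, map_add, map_mul, hfm _ (by simp), mul_zero, add_zero, map_add, map_mul, thetaB_tmul,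
        thetaB_tmul (x := x - _), map_sub, AlgHom.commutes]
      simp only [map_one, mul_one, Algebra.algebraMap_self, RingHom.id_apply, sub_self, map_zero,
        mul_zero, add_zero]
      rfl
  intro c
  obtain ⟨l, rfl⟩ := Ideal.Quotient.mk_surjective c
  obtain ⟨x, ⟨_, n, rfl⟩, rfl⟩ := IsLocalization.exists_mk'_eq (Submonoid.powers e) l
  obtain ⟨u, hu'⟩ := hu
  refine ⟨thetaB R ev x * ((u⁻¹ : Rˣ) : R) ^ n, ?_⟩
  have h1 : Ideal.Quotient.mk J (IsLocalization.mk' (Localization.Away e) x
      (⟨e ^ n, n, rfl⟩ : Submonoid.powers e)) * f (e ^ n) = f x := by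
    change _ * Ideal.Quotient.mk J (algebraMap _ _ (e ^ n)) = Ideal.Quotient.mk J (algebraMap _ _ x)
    rw [← map_mul]
    congr 1
    exact IsLocalization.mk'_spec (Localization.Away e) x (⟨e ^ n, n, rfl⟩ : Submonoid.powers e)
  rw [hf x, map_pow, hf e, ← hu', ← map_pow] at h1
  rw [map_mul, ← h1, mul_assoc, ← map_mul, ← mul_pow, Units.mul_inv, one_pow, map_one, mul_one]

end Fam

theorem exists_line (δ : Polynomial k) (h0 : δ.eval 0 ≠ 0) (h1 : δ.eval 1 ≠ 0) :
    ∃ (R : Type u) (_ : CommRing R) (_ : IsDomain R) (_ : Algebra k R) (_ : Algebra.FiniteType k R)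
      (μ : R) (s₀ s₁ : R →ₐ[k] k), s₀ μ = 0 ∧ s₁ μ = 1 ∧ IsUnit (Polynomial.aeval μ δ) := by
  have hδ : δ ≠ 0 := by
    rintro rfl
    simp at h0
  have key : ∀ x : k, δ.eval x ≠ 0 → ∃ s : Localization.Away δ →ₐ[k] k,
      s (algebraMap (Polynomial k) _ Polynomial.X) = x := by
    intro x hx
    refine ⟨IsLocalization.liftAlgHom (M := Submonoid.powers δ) (S := Localization.Away δ)
      (f := Polynomial.aeval x) ?_, ?_⟩
    · rintro ⟨_, n, rfl⟩
      simp only [map_pow]
      refine IsUnit.pow n ?_
      rw [isUnit_iff_ne_zero]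
      simpa using hx
    · exact (IsLocalization.lift_eq _ _).trans (by simp)
  obtain ⟨s₀, hs₀⟩ := key 0 h0
  obtain ⟨s₁, hs₁⟩ := key 1 h1
  refine ⟨Localization.Away δ, inferInstance, ?_, inferInstance, ?_,
    algebraMap (Polynomial k) _ Polynomial.X, s₀, s₁, hs₀, hs₁, ?_⟩
  · exact IsLocalization.isDomain_localization (powers_le_nonZeroDivisors_of_noZeroDivisors hδ)
  · exact Algebra.FiniteType.trans (S := Polynomial k) inferInstance
      (IsLocalization.finiteType_of_monoid_fg (Submonoid.powers δ) _)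
  · have h2 : Polynomial.aeval (algebraMap (Polynomial k) (Localization.Away δ) Polynomial.X) δ =
        algebraMap (Polynomial k) (Localization.Away δ) δ := by
      rw [Polynomial.aeval_algebraMap_apply, Polynomial.aeval_X_left_apply]
    rw [h2]
    exact IsLocalization.Away.algebraMap_isUnit δ

theorem evS_mm [Fintype σ] [DecidableEq σ] {R : Type u} [CommRing R] [Algebra k R] (μ : R)
    (s : R →ₐ[k] k) (a : Matrix σ σ B) :
    evS s (mm (k := k) μ a).det =
      (Matrix.scalar σ (algebraMap k B (1 - s μ)) + algebraMap k B (s μ) • a).det := by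
  change (evS s).toRingHom (mm (k := k) μ a).det = _
  rw [RingHom.map_det]
  congr 1
  ext i j
  simp only [mm, RingHom.mapMatrix_apply, Matrix.map_apply, Matrix.add_apply, Matrix.scalar_apply,
    Matrix.smul_apply, smul_eq_mul, Matrix.diagonal_apply, map_add]
  congr 1
  · split_ifs with h
    · change evS s ((1 - μ) ⊗ₜ 1) = _
      simp
    · exact map_zero _

theorem thetaB_mm [Fintype σ] [DecidableEq σ] {R : Type u} [CommRing R] [Algebra k R] (μ : R)
    (ev : B →ₐ[k] k) (a : Matrix σ σ B) :
    thetaB R ev (mm (k := k) μ a).det =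
      (Matrix.scalar σ (1 - μ) + μ • a.map (fun x => algebraMap k R (ev x))).det := by
  change (thetaB R ev).toRingHom (mm (k := k) μ a).det = _
  rw [RingHom.map_det]
  congr 1
  ext i j
  simp only [mm, RingHom.mapMatrix_apply, Matrix.map_apply, Matrix.add_apply, Matrix.scalar_apply,
    Matrix.smul_apply, smul_eq_mul, Matrix.diagonal_apply, map_add]
  congr 1
  · split_ifs with h
    · change thetaB R ev ((1 - μ) ⊗ₜ 1) = _
      rw [thetaB_tmul, map_one, map_one, mul_one]
    · exact map_zero _

/-- **The line** between two systems of étale coordinates at a point. -/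
theorem exists_familyB [IsAlgClosed k] [Fintype σ] [DecidableEq σ] (t t' : σ → B)
    (ht : (MvPolynomial.aeval t : MvPolynomial σ k →ₐ[k] B).toRingHom.Etale)
    (ht' : (MvPolynomial.aeval t' : MvPolynomial σ k →ₐ[k] B).toRingHom.Etale)
    (M : Ideal B) [hM : M.IsMaximal] (htM : ∀ i, t i ∈ M) (htM' : ∀ i, t' i ∈ M)
    (hspan : ∀ m ∈ M, m ∈ Ideal.span (Set.range t)) :
    ∃ (R : Type u) (_ : CommRing R) (_ : IsDomain R) (_ : Algebra k R) (_ : Algebra.FiniteType k R)
      (w : σ → R ⊗[k] B) (e : R ⊗[k] B) (s₀ s₁ : R →ₐ[k] k),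
      (∀ i, evS s₀ (w i) = t i) ∧ (∀ i, evS s₁ (w i) = t' i) ∧ evS s₀ e ∉ M ∧ evS s₁ e ∉ M ∧
      Module.Finite R (Localization.Away e ⧸
        Ideal.span (Set.range fun i => algebraMap (R ⊗[k] B) (Localization.Away e) (w i))) ∧
      (∀ Q : Ideal B, Q.IsPrime → (∀ i, t i ∈ Q) → Q = M) ∧
      (∀ Q : Ideal B, Q.IsPrime → evS s₁ e ∉ Q → (∀ i, t' i ∈ Q) → Q = M) := by
  have hftB : Algebra.FiniteType k B := finiteType_of_etale t ht
  have ha' : ∀ i, ∃ a : σ → B, ∑ j, a j * t j = t' i := by
    intro i
    have := hspan _ (htM' i)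
    rw [Ideal.mem_span_range_iff_exists_fun] at this
    exact this
  choose a₀ ha₀ using ha'
  let a : Matrix σ σ B := Matrix.of a₀
  have ha : ∀ i, t' i = ∑ j, a i j * t j := fun i => (ha₀ i).symm
  have hdet : a.det ∉ M := det_notMem t t' ht ht' M htM a ha
  obtain ⟨ev, hev⟩ := exists_algHom_of_isMaximal (k := k) M
  have hev' : ∀ m, ev m = 0 ↔ m ∈ M := fun m => by rw [← hev]; exact Iff.rfl
  -- the determinant along the line
  let δ : Polynomial k := (Matrix.scalar σ (1 - Polynomial.X : Polynomial k) +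
    (Polynomial.X : Polynomial k) • a.map (fun x => Polynomial.C (ev x))).det
  have hδ : ∀ (S : Type u) [CommRing S] [Algebra k S] (x : S), Polynomial.aeval x δ =
      (Matrix.scalar σ (1 - x) + x • a.map (fun y => algebraMap k S (ev y))).det := by
    intro S _ _ x
    change (Polynomial.aeval x : Polynomial k →ₐ[k] S).toRingHom δ = _
    rw [RingHom.map_det]
    congr 1
    ext i j
    simp only [RingHom.mapMatrix_apply, Matrix.map_apply, Matrix.add_apply, Matrix.scalar_apply,
      Matrix.smul_apply, smul_eq_mul, Matrix.diagonal_apply, map_add, map_mul]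
    congr 1
    · split_ifs with h
      · change Polynomial.aeval x (1 - Polynomial.X : Polynomial k) = _
        simp
      · exact map_zero _
    · change Polynomial.aeval x (Polynomial.X : Polynomial k) * Polynomial.aeval x (Polynomial.C _) = _
      simp
  have hδ' : ∀ x : k, δ.eval x =
      (Matrix.scalar σ (1 - x) + x • a.map (fun y => ev y)).det := by
    intro x
    rw [← Polynomial.coe_aeval_eq_eval, hδ k x]
    rfl
  obtain ⟨R, _, hdom, _, hft, μ, s₀, s₁, hs₀, hs₁, hu⟩ := exists_line δ
    (by rw [hδ' 0]; simp)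
    (by
      rw [hδ' 1]
      simp only [sub_self, map_zero, one_smul, zero_add]
      have h1 : (a.map (fun y => ev y)).det = ev a.det := (RingHom.map_det ev.toRingHom a).symm
      rw [h1, Ne, hev']
      exact hdet)
  have hu' : IsUnit (thetaB R ev (mm (k := k) μ a).det) := by
    rw [thetaB_mm, ← hδ]
    exact hu
  have hs₁e : evS s₁ (mm (k := k) μ a).det = a.det := by
    rw [evS_mm, hs₁]
    simp
  refine ⟨R, inferInstance, hdom, inferInstance, hft, ww μ t t', (mm (k := k) μ a).det, s₀, s₁,
    fun i => ?_, fun i => ?_, ?_, ?_, ?_, ?_, ?_⟩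
  · simp [ww, hs₀]
  · simp [ww, hs₁]
  · rw [evS_mm, hs₀]
    simp only [sub_zero, map_one, map_zero, zero_smul, add_zero, Matrix.det_one]
    exact (Ideal.ne_top_iff_one M).1 hM.ne_top
  · rw [hs₁e]
    exact hdet
  · exact Module.Finite.of_surjective (Algebra.linearMap R _)
      (surjective_algebraMap μ t t' a ha ev (fun m hm => hspan m ((hev' m).1 hm)) hu')
  · intro Q hQ h
    refine (hM.eq_of_le hQ.ne_top fun m hm => ?_).symm
    have h1 : Ideal.span (Set.range t) ≤ Q := by
      rw [Ideal.span_le]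
      rintro _ ⟨i, rfl⟩
      exact h i
    exact h1 (hspan m hm)
  · intro Q hQ he h
    rw [hs₁e] at he
    refine (hM.eq_of_le hQ.ne_top fun m hm => ?_).symm
    have h1 : Ideal.span (Set.range t) ≤ Q := by
      rw [Ideal.span_le]
      rintro _ ⟨j, rfl⟩
      have h2 : (a.adjugate.mulVec t') j = a.det * t j := by
        have h3 : t' = a.mulVec t := funext ha
        rw [h3, Matrix.mulVec_mulVec, Matrix.adjugate_mul, Matrix.smul_mulVec, Matrix.one_mulVec,
          Pi.smul_apply, smul_eq_mul]
      have h4 : a.det * t j ∈ Q := by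
        rw [← h2, Matrix.mulVec, dotProduct]
        exact Q.sum_mem fun i _ => Q.mul_mem_left _ (h i)
      exact (hQ.mem_or_mem h4).resolve_left he
    exact h1 (hspan m hm)

end Groth.Agent.Sga4h.H13.FamRingB
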