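import Groth.Agent.Sga4h.H13.FamA
import Groth.Agent.Sga4h.H13.FamRingB

/-!
# The family between two systems of étale coordinates at a point
-/

set_option autoImplicit false
universe u
open CategoryTheory CategoryTheory.Limits AlgebraicGeometry Opposite TensorProduct

namespace Groth.Agent.Sga4h.H13

noncomputable section

variable {k : Type u} [Field k] {d : ℕ}

section

variable {X : Scheme.{u}} (p : X ⟶ Spec (CommRingCat.of k))
  {B : Type u} [CommRing B] [Algebra k B] (N : X.Opens) (j : Spec (CommRingCat.of B) ⟶ N.toScheme)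
  [IsOpenImmersion j] (hj : (j ≫ N.ι) ≫ p = strR k B) {R : Type u} [CommRing R] [Algebra k R]
  (s : R →ₐ[k] k) (e : R ⊗[k] B) (w : ULift.{u} (Fin d) → R ⊗[k] B)
  [Module.Finite R (Localization.Away e ⧸ idL e w)] [IsSeparated p]

theorem mem_memL_Z (z : X) : z ∈ (memL p (j ≫ N.ι) hj s e w).Z ↔
    ∃ q : Spec (CommRingCat.of B), (j ≫ N.ι) q = z ∧ FamRing.evS s e ∉ q.asIdeal ∧
      ∀ i, FamRing.evS s (w i) ∈ q.asIdeal := by
  obtain ⟨l, hl⟩ := memL_exists_lift p N j hj s e w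
  have hΦ := memL_Φ p (j ≫ N.ι) hj s e w l hl
  have hzero : ∀ y, y ∈ zeros (memL p (j ≫ N.ι) hj s e w).Φ ↔
      ∀ i, FamRing.evS s (w i) ∈ (l y).asIdeal := by
    intro y
    rw [← mem_zeros_specHom (k := k), hΦ]
    change (l ≫ specHom k fun i => FamRing.evS s (w i)) y ∈ Set.range (origin k d) ↔ _
    rw [Scheme.Hom.comp_apply]
    rfl
  have hlW : ∀ y, (j ≫ N.ι) (l y) = (memL p (j ≫ N.ι) hj s e w).W.ι y := fun y => by
    rw [← Scheme.Hom.comp_apply, hl]
  constructor
  · rintro ⟨y, hy, rfl⟩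
    obtain ⟨q, hq, heq⟩ := (mem_memL_W p (j ≫ N.ι) hj s e w _).1 y.2
    have hql : q = l y := (j ≫ N.ι).isOpenEmbedding.injective (hq.trans (hlW y).symm)
    refine ⟨q, hq, heq, ?_⟩
    rw [hql]
    exact (hzero y).1 hy
  · rintro ⟨q, rfl, heq, hw⟩
    have hmem : (j ≫ N.ι) q ∈ (memL p (j ≫ N.ι) hj s e w).W :=
      (mem_memL_W p (j ≫ N.ι) hj s e w _).2 ⟨q, rfl, heq⟩
    have hmem' : (j ≫ N.ι) q ∈ Set.range (memL p (j ≫ N.ι) hj s e w).W.ι := by
      rw [Scheme.Opens.range_ι]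
      exact hmem
    obtain ⟨y, hy⟩ := hmem'
    have hql : l y = q := (j ≫ N.ι).isOpenEmbedding.injective ((hlW y).trans hy)
    refine ⟨y, (hzero y).2 ?_, hy⟩
    rw [hql]
    exact hw

end

/-- A chart in which given étale coordinates generate the maximal ideal of a zero. -/
theorem exists_chart_span {X : Scheme.{u}} (p : X ⟶ Spec (CommRingCat.of k)) (N : X.Opens)
    (t : N.toScheme ⟶ Aff k d) [Etale t] (ht : t ≫ Aff.str k d = N.ι ≫ p) (x : N)
    (hx : x ∈ zeros t) :
    ∃ (B : Type u) (_ : CommRing B) (_ : Algebra k B)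
      (j : Spec (CommRingCat.of B) ⟶ N.toScheme) (_ : IsOpenImmersion j)
      (x₀ : Spec (CommRingCat.of B)) (t' : ULift.{u} (Fin d) → B), j x₀ = x ∧
      j ≫ N.ι ≫ p = strR k B ∧ j ≫ t = specHom k t' ∧
      ∀ m ∈ x₀.asIdeal, m ∈ Ideal.span (Set.range t') := by
  obtain ⟨B₁, _, _, _, j₁, _, x₁, hx₁, hj₁⟩ := exists_chart p N t ht x
  obtain ⟨t₁, ht₁⟩ : ∃ t₁ : ULift.{u} (Fin d) → B₁, j₁ ≫ t = specHom k t₁ :=
    ⟨_, eq_specHom _ (by rw [Category.assoc, ht, hj₁])⟩
  have het : Etale (specHom k t₁) := by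
    rw [← ht₁]
    infer_instance
  have hprime : x₁.asIdeal.IsPrime := x₁.isPrime
  have htx : ∀ i, t₁ i ∈ x₁.asIdeal := by
    rw [← mem_zeros_specHom (k := k), ← ht₁]
    change (j₁ ≫ t) x₁ ∈ Set.range (origin k d)
    rw [Scheme.Hom.comp_apply, hx₁]
    exact hx
  obtain ⟨g, hg, hspan⟩ := FamRingB.exists_mul_mem_span t₁ (etale_aeval_of_specHom t₁ het)
    x₁.asIdeal htx
  obtain ⟨x₀, hx₀⟩ := (mem_basicOpen_loc (A := B₁) g x₁).2 hg
  have hopen : IsOpenImmersion (Spec.map (CommRingCat.ofHom (algebraMap B₁ (Localization.Away g)))) :=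
    inferInstance
  refine ⟨Localization.Away g, inferInstance, inferInstance,
    Spec.map (CommRingCat.ofHom (algebraMap B₁ (Localization.Away g))) ≫ j₁, inferInstance, x₀,
    fun i => algebraMap B₁ _ (t₁ i), ?_, ?_, ?_, ?_⟩
  · rw [Scheme.Hom.comp_apply, hx₀, hx₁]
  · rw [Category.assoc, hj₁]
    rw [← Spec.map_comp, ← CommRingCat.ofHom_comp]
  · rw [Category.assoc, ht₁]
    exact comp_specHom (IsScalarTower.toAlgHom k B₁ (Localization.Away g)) t₁
  · intro m hm
    obtain ⟨b, ⟨_, n, rfl⟩, rfl⟩ := IsLocalization.exists_mk'_eq (Submonoid.powers g) m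
    have h1 : algebraMap B₁ (Localization.Away g) b ∈ x₀.asIdeal := by
      rw [← IsLocalization.mk'_spec (Localization.Away g) b (⟨g ^ n, n, rfl⟩ : Submonoid.powers g)]
      exact x₀.asIdeal.mul_mem_right _ hm
    have h2 : b ∈ x₁.asIdeal := by
      rw [← hx₀]
      exact h1
    have h3 : algebraMap B₁ (Localization.Away g) (g * b) ∈
        Ideal.span (Set.range fun i => algebraMap B₁ (Localization.Away g) (t₁ i)) := by
      have h4 := Ideal.mem_map_of_mem (algebraMap B₁ (Localization.Away g)) (hspan b h2)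
      rw [Ideal.map_span, ← Set.range_comp] at h4
      exact h4
    rw [map_mul] at h3
    have h5 := (Ideal.unit_mul_mem_iff_mem _ (IsLocalization.Away.algebraMap_isUnit
      (S := Localization.Away g) g)).1 h3
    rw [IsLocalization.mk'_eq_mul_mk'_one]
    exact Ideal.mul_mem_right _ _ h5

/-- **(b)** Two étale maps vanishing at `x` are connected by a family of maps with the only zero
`x`. -/
theorem stmtB (k : Type u) [Field k] [IsAlgClosed k] : StmtB k := by
  intro X p _ d N t t' _ _ ht ht' x hx hx'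
  obtain ⟨B, _, _, j, _, x₀, u, hx₀, hj, hu, hspan⟩ := exists_chart_span p N t ht x hx
  have hj' : (j ≫ N.ι) ≫ p = strR k B := by rw [Category.assoc, hj]
  obtain ⟨u', hu'⟩ : ∃ u' : ULift.{u} (Fin d) → B, j ≫ t' = specHom k u' :=
    ⟨_, eq_specHom _ (by rw [Category.assoc, ht', hj])⟩
  have het : Etale (specHom k u) := by
    rw [← hu]
    infer_instance
  have het' : Etale (specHom k u') := by
    rw [← hu']
    infer_instance
  have hprime : x₀.asIdeal.IsPrime := x₀.isPrime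
  have hzero : ∀ i, u i ∈ x₀.asIdeal := by
    rw [← mem_zeros_specHom (k := k), ← hu]
    change (j ≫ t) x₀ ∈ Set.range (origin k d)
    rw [Scheme.Hom.comp_apply, hx₀]
    exact hx
  have hzero' : ∀ i, u' i ∈ x₀.asIdeal := by
    rw [← mem_zeros_specHom (k := k), ← hu']
    change (j ≫ t') x₀ ∈ Set.range (origin k d)
    rw [Scheme.Hom.comp_apply, hx₀]
    exact hx'
  have hmax : x₀.asIdeal.IsMaximal :=
    FamRingB.isMaximal_of_span u (etale_aeval_of_specHom u het) x₀.asIdeal hzero hspan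
  obtain ⟨R, _, _, _, _, w, e, s₀, s₁, hw₀, hw₁, he₀, he₁, hfin, hQ₀, hQ₁⟩ :=
    FamRingB.exists_familyB u u' (etale_aeval_of_specHom u het) (etale_aeval_of_specHom u' het')
      x₀.asIdeal hzero hzero' hspan
  have hconn : ConnectedSpace (Spec (CommRingCat.of R)) :=
    inferInstanceAs (ConnectedSpace (PrimeSpectrum R))
  have hlft : LocallyOfFiniteType (strR k R) := by
    rw [HasRingHomProperty.Spec_iff (P := @LocallyOfFiniteType)]
    exact RingHom.finiteType_algebraMap.mpr ‹_›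
  have hxx : (j ≫ N.ι) x₀ = x := by
    rw [Scheme.Hom.comp_apply, hx₀]
    rfl
  refine ⟨Spec (CommRingCat.of R), strR k R, hlft, hconn, datL p (j ≫ N.ι) hj' e w, ptR s₀, ptR s₁,
    ptR_str s₀, ptR_str s₁, ?_, ?_, ?_, ?_⟩
  · ext z
    refine (mem_memL_Z p N j hj' s₀ e w z).trans ?_
    rw [Set.mem_singleton_iff]
    constructor
    · rintro ⟨q, rfl, -, hq⟩
      have h1 : q.asIdeal = x₀.asIdeal := hQ₀ _ q.isPrime (fun i => by rw [← hw₀ i]; exact hq i)
      have h2 : q = x₀ := PrimeSpectrum.ext h1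
      rw [h2, hxx]
    · rintro rfl
      exact ⟨x₀, hxx, he₀, fun i => by rw [hw₀]; exact hzero i⟩
  · exact memL_Of p N j hj' s₀ e w t (by rw [hu]; congr 1; ext i; rw [hw₀])
  · ext z
    refine (mem_memL_Z p N j hj' s₁ e w z).trans ?_
    rw [Set.mem_singleton_iff]
    constructor
    · rintro ⟨q, rfl, heq, hq⟩
      have h1 : q.asIdeal = x₀.asIdeal :=
        hQ₁ _ q.isPrime heq (fun i => by rw [← hw₁ i]; exact hq i)
      have h2 : q = x₀ := PrimeSpectrum.ext h1
      rw [h2, hxx]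
    · rintro rfl
      exact ⟨x₀, hxx, he₁, fun i => by rw [hw₁]; exact hzero' i⟩
  · exact memL_Of p N j hj' s₁ e w t' (by rw [hu']; congr 1; ext i; rw [hw₁])

end

end Groth.Agent.Sga4h.H13
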