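import Groth.Agent.Sga4h.H13.FamStmt
import Mathlib.AlgebraicGeometry.Morphisms.FlatRank
import Mathlib.AlgebraicGeometry.PullbackCarrier
import Mathlib.RingTheory.Etale.Field
import Mathlib.AlgebraicGeometry.Morphisms.ClosedImmersion

/-!
# Maps to affine space, their zero schemes and multiplicities
-/

set_option autoImplicit false
universe u
open CategoryTheory CategoryTheory.Limits AlgebraicGeometry Opposite

namespace Groth.Agent.Sga4h.H13

noncomputable section

variable {k : Type u} [Field k] {d : ℕ}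

/-! ### maps to affine space -/

theorem eq_homOfVector {T : Scheme.{u}} (f : T ⟶ Aff k d) :
    f = AffineSpace.homOfVector (f ≫ Aff.str k d) (vec f) := by
  apply AffineSpace.hom_ext
  · rw [AffineSpace.homOfVector_over]
  · intro i
    rw [AffineSpace.homOfVector_appTop_coord]
    rfl

theorem aff_ext {T : Scheme.{u}} {f g : T ⟶ Aff k d} (h : f ≫ Aff.str k d = g ≫ Aff.str k d)
    (h' : ∀ i, vec f i = vec g i) : f = g :=
  AffineSpace.hom_ext h h'

@[simp]
theorem vec_homOfVector {T : Scheme.{u}} (c : T ⟶ Spec (CommRingCat.of k)) (v : ULift.{u} (Fin d) → Γ(T, ⊤))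
    (i : ULift.{u} (Fin d)) : vec (AffineSpace.homOfVector c v : T ⟶ Aff k d) i = v i :=
  AffineSpace.homOfVector_appTop_coord _ _ _

theorem vec_comp {T T' : Scheme.{u}} (g : T' ⟶ T) (f : T ⟶ Aff k d) (i : ULift.{u} (Fin d)) :
    vec (g ≫ f) i = g.appTop (vec f i) := by
  simp only [vec, Scheme.Hom.comp_appTop]
  rfl

theorem vec_sub {T : Scheme.{u}} (f g : T ⟶ Aff k d) (i : ULift.{u} (Fin d)) :
    vec (sub f g) i = vec f i - vec g i :=
  vec_homOfVector _ _ _

theorem sub_over {T : Scheme.{u}} (f g : T ⟶ Aff k d) :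
    sub f g ≫ Aff.str k d = f ≫ Aff.str k d :=
  AffineSpace.homOfVector_over _ _

theorem vec_origin (i : ULift.{u} (Fin d)) : vec (origin k d) i = 0 :=
  vec_homOfVector _ _ _

theorem eq_comp_origin {T : Scheme.{u}} (f : T ⟶ Aff k d) (h : ∀ i, vec f i = 0) :
    f = (f ≫ Aff.str k d) ≫ origin k d := by
  apply aff_ext
  · rw [Category.assoc (f ≫ _), origin_str, Category.comp_id]
  · intro i
    rw [h i, vec_comp, vec_origin, map_zero]

instance : IsClosedImmersion (origin k d) := by
  have h1 : IsClosedImmersion (origin k d ≫ Aff.str k d) := by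
    rw [origin_str]
    infer_instance
  exact IsClosedImmersion.of_comp _ (Aff.str k d)

theorem range_of_isPullback {P X Y Z : Scheme.{u}} {fst : P ⟶ X} {snd : P ⟶ Y} {f : X ⟶ Z}
    {g : Y ⟶ Z} (h : IsPullback fst snd f g) : Set.range fst = f ⁻¹' Set.range g := by
  rw [← Scheme.Pullback.range_fst, ← h.isoPullback_hom_fst]
  ext x
  constructor
  · rintro ⟨y, rfl⟩
    exact ⟨h.isoPullback.hom y, by rw [← Scheme.Hom.comp_apply]⟩
  · rintro ⟨y, rfl⟩
    refine ⟨h.isoPullback.inv y, ?_⟩
    rw [← Scheme.Hom.comp_apply, Iso.inv_hom_id_assoc]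

/-! ### affine schemes -/

section Spec

variable {B : Type u} [CommRing B] [Algebra k B]

variable (k) in
/-- The map `Spec B ⟶ 𝔸^d` given by `d` elements of `B`. -/
def specHom (v : ULift.{u} (Fin d) → B) : Spec (CommRingCat.of B) ⟶ Aff k d :=
  AffineSpace.homOfVector (Spec.map (CommRingCat.ofHom (algebraMap k B)))
    (fun i => (Scheme.ΓSpecIso (CommRingCat.of B)).inv (v i))

theorem specHom_str (v : ULift.{u} (Fin d) → B) :
    specHom k v ≫ Aff.str k d = Spec.map (CommRingCat.ofHom (algebraMap k B)) :=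
  AffineSpace.homOfVector_over _ _

theorem vec_specHom (v : ULift.{u} (Fin d) → B) (i : ULift.{u} (Fin d)) :
    vec (specHom k v) i = (Scheme.ΓSpecIso (CommRingCat.of B)).inv (v i) :=
  vec_homOfVector _ _ _

theorem eq_specHom (f : Spec (CommRingCat.of B) ⟶ Aff k d)
    (h : f ≫ Aff.str k d = Spec.map (CommRingCat.ofHom (algebraMap k B))) :
    f = specHom k (fun i => (Scheme.ΓSpecIso (CommRingCat.of B)).hom (vec f i)) := by
  apply aff_ext
  · rw [h, specHom_str]
  · intro i
    rw [vec_specHom]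
    exact (ConcreteCategory.congr_hom (Scheme.ΓSpecIso (CommRingCat.of B)).hom_inv_id _).symm

theorem comp_specHom {B' : Type u} [CommRing B'] [Algebra k B'] (f : B →ₐ[k] B')
    (v : ULift.{u} (Fin d) → B) :
    Spec.map (CommRingCat.ofHom f.toRingHom) ≫ specHom k v = specHom k (fun i => f (v i)) := by
  apply aff_ext
  · rw [Category.assoc, specHom_str, specHom_str, ← Spec.map_comp, ← CommRingCat.ofHom_comp]
    congr 2
    exact f.comp_algebraMap
  · intro i
    rw [vec_comp, vec_specHom, vec_specHom]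
    exact (ConcreteCategory.congr_hom (Scheme.ΓSpecIso_inv_naturality
      (CommRingCat.ofHom f.toRingHom)) (v i)).symm

set_option backward.isDefEq.respectTransparency.types false in
theorem specHom_eq (v : ULift.{u} (Fin d) → B) :
    specHom k v = Spec.map (CommRingCat.ofHom (MvPolynomial.aeval v : MvPolynomial _ k →ₐ[k] B).toRingHom) ≫
      (AffineSpace.SpecIso (ULift.{u} (Fin d)) (CommRingCat.of k)).inv := by
  apply aff_ext
  · rw [specHom_str, Category.assoc, AffineSpace.SpecIso_inv_over, ← Spec.map_comp,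
      ← CommRingCat.ofHom_comp]
    congr 2
    exact ((MvPolynomial.aeval v : MvPolynomial _ k →ₐ[k] B).comp_algebraMap).symm
  · intro i
    rw [vec_specHom, vec_comp]
    have h1 : vec (AffineSpace.SpecIso (ULift.{u} (Fin d)) (CommRingCat.of k)).inv i =
        (Scheme.ΓSpecIso (.of _)).inv (.X i) := AffineSpace.SpecIso_inv_appTop_coord _ _
    rw [h1]
    have h2 := ConcreteCategory.congr_hom (Scheme.ΓSpecIso_inv_naturality
      (CommRingCat.ofHom (MvPolynomial.aeval v : MvPolynomial _ k →ₐ[k] B).toRingHom))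
      (MvPolynomial.X i)
    refine Eq.trans ?_ h2
    change _ = (Scheme.ΓSpecIso (CommRingCat.of B)).inv (MvPolynomial.aeval v (MvPolynomial.X i))
    rw [MvPolynomial.aeval_X]

theorem etale_specHom (v : ULift.{u} (Fin d) → B)
    (h : (MvPolynomial.aeval v : MvPolynomial _ k →ₐ[k] B).toRingHom.Etale) :
    Etale (specHom k v) := by
  rw [specHom_eq]
  have h1 : Etale (Spec.map (CommRingCat.ofHom
      (MvPolynomial.aeval v : MvPolynomial _ k →ₐ[k] B).toRingHom)) := by
    rw [HasRingHomProperty.Spec_iff (P := @Etale)]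
    exact h
  infer_instance

theorem etale_aeval_of_specHom (v : ULift.{u} (Fin d) → B) (h : Etale (specHom k v)) :
    (MvPolynomial.aeval v : MvPolynomial _ k →ₐ[k] B).toRingHom.Etale := by
  rw [specHom_eq] at h
  have h1 : Etale (Spec.map (CommRingCat.ofHom
      (MvPolynomial.aeval v : MvPolynomial _ k →ₐ[k] B).toRingHom)) := by
    have h2 : Etale ((Spec.map (CommRingCat.ofHom
      (MvPolynomial.aeval v : MvPolynomial _ k →ₐ[k] B).toRingHom) ≫
      (AffineSpace.SpecIso (ULift.{u} (Fin d)) (CommRingCat.of k)).inv) ≫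
      (AffineSpace.SpecIso (ULift.{u} (Fin d)) (CommRingCat.of k)).hom) := inferInstance
    rwa [Category.assoc, Iso.inv_hom_id, Category.comp_id] at h2
  rwa [HasRingHomProperty.Spec_iff (P := @Etale)] at h1

variable (v : ULift.{u} (Fin d) → B)

theorem condition_specHom :
    Spec.map (CommRingCat.ofHom (Ideal.Quotient.mk (Ideal.span (Set.range v)))) ≫ specHom k v =
      Spec.map (CommRingCat.ofHom (algebraMap k (B ⧸ Ideal.span (Set.range v)))) ≫ origin k d := by
  have h1 := comp_specHom (Ideal.Quotient.mkₐ k (Ideal.span (Set.range v))) v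
  refine h1.trans ?_
  have h2 : (fun i => (Ideal.Quotient.mkₐ k (Ideal.span (Set.range v))) (v i)) = 0 := by
    ext i
    exact Ideal.Quotient.eq_zero_iff_mem.2 (Ideal.subset_span ⟨i, rfl⟩)
  rw [h2, eq_comp_origin (specHom k 0), specHom_str]
  intro i
  rw [vec_specHom]
  exact map_zero _

/-- The zero scheme of a map `Spec B ⟶ 𝔸^d`. -/
theorem isPullback_specHom :
    IsPullback (Spec.map (CommRingCat.ofHom (Ideal.Quotient.mk (Ideal.span (Set.range v)))))
      (Spec.map (CommRingCat.ofHom (algebraMap k (B ⧸ Ideal.span (Set.range v)))))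
      (specHom k v) (origin k d) := by
  have : IsClosedImmersion (Spec.map (CommRingCat.ofHom
      (Ideal.Quotient.mk (Ideal.span (Set.range v))))) :=
    IsClosedImmersion.spec_of_surjective _ Ideal.Quotient.mk_surjective
  have key : ∀ s : PullbackCone (specHom k v) (origin k d), ∃ l : s.pt ⟶ _,
      l ≫ Spec.map (CommRingCat.ofHom (Ideal.Quotient.mk (Ideal.span (Set.range v)))) = s.fst := by
    intro s
    let φ : B →+* Γ(s.pt, ⊤) := ((Scheme.ΓSpecIso (CommRingCat.of B)).inv ≫ s.fst.appTop).hom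
    have hφ : ∀ a ∈ Ideal.span (Set.range v), φ a = 0 := by
      intro a ha
      have h1 : Ideal.span (Set.range v) ≤ RingHom.ker φ := by
        rw [Ideal.span_le]
        rintro _ ⟨i, rfl⟩
        change s.fst.appTop ((Scheme.ΓSpecIso (CommRingCat.of B)).inv (v i)) = 0
        rw [← vec_specHom (k := k), ← vec_comp, s.condition, vec_comp, vec_origin, map_zero]
      exact h1 ha
    refine ⟨s.pt.toSpecΓ ≫ Spec.map (CommRingCat.ofHom (Ideal.Quotient.lift _ φ hφ)), ?_⟩
    rw [Category.assoc, ← Spec.map_comp, ← CommRingCat.ofHom_comp, Ideal.Quotient.lift_comp_mk]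
    change s.pt.toSpecΓ ≫ Spec.map ((Scheme.ΓSpecIso (CommRingCat.of B)).inv ≫ s.fst.appTop) = _
    rw [Spec.map_comp, ← Scheme.toSpecΓ_naturality_assoc, toSpecΓ_SpecMap_ΓSpecIso_inv,
      Category.comp_id]
  refine ⟨⟨condition_specHom v⟩, ⟨PullbackCone.IsLimit.mk _ (fun s => (key s).choose)
    (fun s => (key s).choose_spec) (fun s => ?_) (fun s m hm _ => ?_)⟩⟩
  · have h1 := (key s).choose_spec
    have h2 := congrArg (· ≫ Aff.str k d) (condition_specHom (k := k) v)
    simp only [Category.assoc, origin_str, Category.comp_id] at h2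
    rw [← h2, ← Category.assoc, h1, s.condition_assoc, origin_str, Category.comp_id]
  · rw [← cancel_mono (Spec.map (CommRingCat.ofHom (Ideal.Quotient.mk (Ideal.span (Set.range v))))),
      (key s).choose_spec, hm]

theorem mem_zeros_specHom (x : Spec (CommRingCat.of B)) :
    x ∈ zeros (specHom k v) ↔ ∀ i, v i ∈ x.asIdeal := by
  have h1 : zeros (specHom k v) = Set.range (Spec.map (CommRingCat.ofHom
      (Ideal.Quotient.mk (Ideal.span (Set.range v))))) :=
    (range_of_isPullback (isPullback_specHom (k := k) v)).symm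
  rw [h1]
  have h2 : Set.range (Spec.map (CommRingCat.ofHom (Ideal.Quotient.mk (Ideal.span (Set.range v))))) =
      PrimeSpectrum.zeroLocus (Ideal.span (Set.range v) : Set B) := by
    refine (range_comap_of_surjective _ _ Ideal.Quotient.mk_surjective).trans ?_
    rw [Ideal.mk_ker]
  rw [h2, PrimeSpectrum.zeroLocus_span]
  constructor
  · intro h i
    exact h ⟨i, rfl⟩
  · rintro h _ ⟨i, rfl⟩
    exact h i

end Spec

/-! ### zero schemes and open immersions -/

section Open

/-- The map on zero schemes. -/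
def zeroMap {U T : Scheme.{u}} (j : U ⟶ T) (f : T ⟶ Aff k d) : zeroScheme (j ≫ f) ⟶ zeroScheme f :=
  pullback.lift (pullback.fst (j ≫ f) (origin k d) ≫ j) (pullback.snd (j ≫ f) (origin k d))
    (by rw [Category.assoc, pullback.condition])

@[reassoc (attr := simp)]
theorem zeroMap_fst {U T : Scheme.{u}} (j : U ⟶ T) (f : T ⟶ Aff k d) :
    zeroMap j f ≫ pullback.fst f (origin k d) = pullback.fst (j ≫ f) (origin k d) ≫ j :=
  pullback.lift_fst _ _ _

@[reassoc (attr := simp)]
theorem zeroMap_snd {U T : Scheme.{u}} (j : U ⟶ T) (f : T ⟶ Aff k d) :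
    zeroMap j f ≫ pullback.snd f (origin k d) = pullback.snd (j ≫ f) (origin k d) :=
  pullback.lift_snd _ _ _

theorem isPullback_zeroMap {U T : Scheme.{u}} (j : U ⟶ T) (f : T ⟶ Aff k d) :
    IsPullback (zeroMap j f) (pullback.fst (j ≫ f) (origin k d)) (pullback.fst f (origin k d)) j := by
  have h2 : IsPullback (zeroMap j f ≫ pullback.snd f (origin k d))
      (pullback.fst (j ≫ f) (origin k d)) (origin k d) (j ≫ f) := by
    rw [zeroMap_snd]
    exact (IsPullback.of_hasPullback _ _).flip
  exact IsPullback.of_right h2 (zeroMap_fst j f) (IsPullback.of_hasPullback f (origin k d)).flip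

theorem isIso_zeroMap {U T : Scheme.{u}} (j : U ⟶ T) [IsOpenImmersion j] (f : T ⟶ Aff k d)
    (h : zeros f ⊆ Set.range j) : IsIso (zeroMap j f) := by
  have h1 := isPullback_zeroMap j f
  have h3 : IsOpenImmersion (zeroMap j f) :=
    MorphismProperty.of_isPullback h1.flip ‹IsOpenImmersion j›
  have h4 : Set.range (zeroMap j f) = Set.univ := by
    rw [range_of_isPullback h1, Set.eq_univ_iff_forall]
    intro z
    apply h
    change f (pullback.fst f (origin k d) z) ∈ Set.range (origin k d)
    rw [← Scheme.Hom.comp_apply, pullback.condition, Scheme.Hom.comp_apply]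
    exact ⟨_, rfl⟩
  have h6 : Epi (zeroMap j f).base := by
    rw [TopCat.epi_iff_surjective]
    exact Set.range_eq_univ.1 h4
  exact IsOpenImmersion.isIso (zeroMap j f)

theorem gdim_of_iso {F F' : Scheme.{u}} (e : F ⟶ F') [IsIso e] (c : F ⟶ Spec (CommRingCat.of k))
    (c' : F' ⟶ Spec (CommRingCat.of k)) (h : e ≫ c' = c) : gdim c = gdim c' := by
  let _ : Algebra k (Γ(F, ⊤) : Type u) :=
    RingHom.toAlgebra ((Scheme.ΓSpecIso (CommRingCat.of k)).inv ≫ c.appTop).hom
  let _ : Algebra k (Γ(F', ⊤) : Type u) :=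
    RingHom.toAlgebra ((Scheme.ΓSpecIso (CommRingCat.of k)).inv ≫ c'.appTop).hom
  change Module.finrank k (Γ(F, ⊤) : Type u) = Module.finrank k (Γ(F', ⊤) : Type u)
  symm
  have he : IsIso e.appTop := inferInstanceAs (IsIso (Scheme.Γ.map e.op))
  let φ : (Γ(F', ⊤) : Type u) ≃+* (Γ(F, ⊤) : Type u) := (asIso e.appTop).commRingCatIsoToRingEquiv
  have hφ : ∀ r : k, φ (algebraMap k _ r) = algebraMap k _ r := by
    intro r
    change e.appTop (c'.appTop ((Scheme.ΓSpecIso (CommRingCat.of k)).inv r)) =
      c.appTop ((Scheme.ΓSpecIso (CommRingCat.of k)).inv r)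
    subst h
    rw [Scheme.Hom.comp_appTop]
    rfl
  exact LinearEquiv.finrank_eq (AlgEquiv.ofRingEquiv hφ).toLinearEquiv

/-- The multiplicity does not change on restriction to an open containing the zeros. -/
theorem mult_comp {U T : Scheme.{u}} (j : U ⟶ T) [IsOpenImmersion j] (f : T ⟶ Aff k d)
    (h : zeros f ⊆ Set.range j) : mult (j ≫ f) = mult f := by
  have := isIso_zeroMap j f h
  exact gdim_of_iso (zeroMap j f) _ _ (zeroMap_snd j f)

end Open

/-! ### finite schemes over a field -/

section Finite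

set_option backward.isDefEq.respectTransparency.types false in
theorem gdim_eq_finrank {F : Scheme.{u}} (c : F ⟶ Spec (CommRingCat.of k)) [IsFinite c]
    (x : Spec (CommRingCat.of k)) : gdim c = c.finrank x := by
  let _ : Algebra k (Γ(F, ⊤) : Type u) :=
    RingHom.toAlgebra ((Scheme.ΓSpecIso (CommRingCat.of k)).inv ≫ c.appTop).hom
  have hF : IsAffine F := isAffine_of_isAffineHom c
  have hc : c = F.isoSpec.hom ≫ Spec.map (CommRingCat.ofHom (algebraMap k (Γ(F, ⊤) : Type u))) := by
    change c = F.toSpecΓ ≫ Spec.map ((Scheme.ΓSpecIso (CommRingCat.of k)).inv ≫ c.appTop)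
    rw [Spec.map_comp, ← Scheme.toSpecΓ_naturality_assoc, toSpecΓ_SpecMap_ΓSpecIso_inv,
      Category.comp_id]
  have hfin : IsFinite (Spec.map (CommRingCat.ofHom (algebraMap k (Γ(F, ⊤) : Type u)))) := by
    have h1 : IsFinite (F.isoSpec.inv ≫ c) := inferInstance
    rwa [hc, Iso.inv_hom_id_assoc] at h1
  have hfin' : Module.Finite k (Γ(F, ⊤) : Type u) := by
    rw [IsFinite.SpecMap_iff] at hfin
    exact hfin
  have hflat : Module.Flat k (Γ(F, ⊤) : Type u) := inferInstance
  have hflat' : Flat (Spec.map (CommRingCat.ofHom (algebraMap k (Γ(F, ⊤) : Type u)))) := by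
    rw [Flat.SpecMap_iff]
    exact hflat
  rw [hc, Scheme.Hom.finrank_comp_left_of_isIso, Scheme.Hom.finrank_SpecMap_algebraMap,
    ← hc]
  change Module.finrank k (Γ(F, ⊤) : Type u) = _
  rw [Module.rankAtStalk_eq_finrank_of_free]
  rfl

end Finite

end

end Groth.Agent.Sga4h.H13
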