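import Groth.Agent.Sga4h.H13.FamDat

/-!
# Translates of étale coordinates
-/

set_option autoImplicit false
universe u
open CategoryTheory CategoryTheory.Limits AlgebraicGeometry Opposite

namespace Groth.Agent.Sga4h.H13

noncomputable section

variable {k : Type u} [Field k] {d : ℕ}

theorem comp_sub {T T' : Scheme.{u}} (g : T' ⟶ T) (f f' : T ⟶ Aff k d) :
    g ≫ sub f f' = sub (g ≫ f) (g ≫ f') := by
  apply aff_ext
  · rw [Category.assoc, sub_over, sub_over, Category.assoc]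
  · intro i
    rw [vec_comp, vec_sub, vec_sub, map_sub, vec_comp, vec_comp]

/-- If `f - f'` vanishes then `f = f'`. -/
theorem eq_of_sub {T : Scheme.{u}} (f f' : T ⟶ Aff k d) (h : f ≫ Aff.str k d = f' ≫ Aff.str k d)
    (c : T ⟶ Spec (CommRingCat.of k)) (h' : sub f f' = c ≫ origin k d) : f = f' := by
  apply aff_ext h
  intro i
  rw [← sub_eq_zero, ← vec_sub, h', vec_comp, vec_origin, map_zero]

theorem sub_self' {T : Scheme.{u}} (f : T ⟶ Aff k d) :
    sub f f = (f ≫ Aff.str k d) ≫ origin k d := by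
  rw [eq_comp_origin (sub f f), sub_over]
  intro i
  rw [vec_sub, sub_self]

section

variable {X : Scheme.{u}} (p : X ⟶ Spec (CommRingCat.of k)) (N : X.Opens)
  (t : N.toScheme ⟶ Aff k d)

/-- `X × N`. -/
abbrev XN : Scheme.{u} := pullback p (N.ι ≫ p)

/-- `N × N` in `X × N`. -/
abbrev UN : (XN p N).Opens := pullback.fst p (N.ι ≫ p) ⁻¹ᵁ N

/-- First projection of `N × N`. -/
abbrev aN : (UN p N).toScheme ⟶ N.toScheme := pullback.fst p (N.ι ≫ p) ∣_ N

/-- Second projection of `N × N`. -/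
abbrev bN : (UN p N).toScheme ⟶ N.toScheme := (UN p N).ι ≫ pullback.snd p (N.ι ≫ p)

theorem aN_over : aN p N ≫ N.ι ≫ p = bN p N ≫ N.ι ≫ p := by
  rw [morphismRestrict_ι_assoc, Category.assoc, pullback.condition]

theorem UN_ext {T : Scheme.{u}} {f g : T ⟶ (UN p N).toScheme} (h₁ : f ≫ aN p N = g ≫ aN p N)
    (h₂ : f ≫ bN p N = g ≫ bN p N) : f = g := by
  rw [← cancel_mono (UN p N).ι]
  apply pullback.hom_ext
  · have h3 := congrArg (· ≫ N.ι) h₁
    simpa only [Category.assoc, morphismRestrict_ι] using h3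
  · simpa only [Category.assoc] using h₂

/-- Pairs of maps to `N`. -/
theorem exists_lift_UN {T : Scheme.{u}} (f g : T ⟶ N.toScheme) (h : f ≫ N.ι ≫ p = g ≫ N.ι ≫ p) :
    ∃ l : T ⟶ (UN p N).toScheme, l ≫ aN p N = f ∧ l ≫ bN p N = g := by
  let l₀ : T ⟶ XN p N := pullback.lift (f ≫ N.ι) g (by rw [Category.assoc, h])
  have h0 : Set.range l₀ ⊆ Set.range (UN p N).ι := by
    rw [Scheme.Opens.range_ι]
    rintro _ ⟨z, rfl⟩
    change pullback.fst p (N.ι ≫ p) (l₀ z) ∈ N
    rw [← Scheme.Hom.comp_apply, pullback.lift_fst, Scheme.Hom.comp_apply]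
    exact (f z).2
  refine ⟨IsOpenImmersion.lift (UN p N).ι l₀ h0, ?_, ?_⟩
  · rw [← cancel_mono N.ι, Category.assoc, morphismRestrict_ι, IsOpenImmersion.lift_fac_assoc,
      pullback.lift_fst]
  · rw [IsOpenImmersion.lift_fac_assoc, pullback.lift_snd]

/-- `t(x) - t(y)` on `N × N`. -/
abbrev psiN : (UN p N).toScheme ⟶ Aff k d := sub (aN p N ≫ t) (bN p N ≫ t)

/-- The diagonal of `N`, in `N × N`. -/
theorem exists_gamma : ∃ γ : N.toScheme ⟶ (UN p N).toScheme, γ ≫ aN p N = 𝟙 _ ∧ γ ≫ bN p N = 𝟙 _ ∧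
    γ ≫ (UN p N).ι = graph p N := by
  obtain ⟨γ, h1, h2⟩ := exists_lift_UN p N (𝟙 _) (𝟙 _) rfl
  refine ⟨γ, h1, h2, ?_⟩
  apply pullback.hom_ext
  · have h3 := congrArg (· ≫ N.ι) h1
    simp only [Category.assoc, morphismRestrict_ι, Category.id_comp] at h3
    rw [Category.assoc, h3, graph, pullback.lift_fst]
  · rw [Category.assoc, h2, graph, pullback.lift_snd]

/-- **The diagonal is open in the zero set** of `t(x) - t(y)`. -/
theorem isClosed_compl [Etale t] (ht : t ≫ Aff.str k d = N.ι ≫ p) (γ : N.toScheme ⟶ (UN p N).toScheme)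
    (h1 : γ ≫ aN p N = 𝟙 _) (h2 : γ ≫ bN p N = 𝟙 _) :
    IsClosed (zeros (psiN p N t) \ Set.range γ) ∧ Set.range γ ⊆ zeros (psiN p N t) := by
  let E := zeroScheme (psiN p N t)
  let e : E ⟶ (UN p N).toScheme := pullback.fst (psiN p N t) (origin k d)
  have he : e ≫ aN p N ≫ t = e ≫ bN p N ≫ t := by
    apply eq_of_sub _ _ _ (pullback.snd (psiN p N t) (origin k d))
    · rw [← comp_sub]
      exact pullback.condition
    · rw [Category.assoc, Category.assoc, ht, Category.assoc, Category.assoc, ht, aN_over]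
  let τ : E ⟶ pullback t t := pullback.lift (e ≫ aN p N) (e ≫ bN p N)
    ((Category.assoc _ _ _).trans (he.trans (Category.assoc _ _ _).symm))
  -- `N ×_{𝔸} N ⟶ N × N`
  obtain ⟨κ, hκ1, hκ2⟩ := exists_lift_UN p N (pullback.fst t t) (pullback.snd t t) (by
    rw [← ht, pullback.condition_assoc])
  have hτκ : τ ≫ κ = e := by
    apply UN_ext
    · rw [Category.assoc, hκ1, pullback.lift_fst]
    · rw [Category.assoc, hκ2, pullback.lift_snd]
  have hΔκ : pullback.diagonal t ≫ κ = γ := by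
    apply UN_ext
    · rw [Category.assoc, hκ1, pullback.diagonal_fst, h1]
    · rw [Category.assoc, hκ2, pullback.diagonal_snd, h2]
  have hγ : γ ≫ psiN p N t = (t ≫ Aff.str k d) ≫ origin k d := by
    have h1t : γ ≫ aN p N ≫ t = t := by rw [← Category.assoc, h1, Category.id_comp]
    have h2t : γ ≫ bN p N ≫ t = t := by rw [← Category.assoc, h2, Category.id_comp]
    rw [psiN, comp_sub, h1t, h2t, sub_self']
  let γ' : N.toScheme ⟶ E := pullback.lift γ (t ≫ Aff.str k d) hγ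
  have hγ' : γ' ≫ e = γ := pullback.lift_fst _ _ _
  have hγτ : γ' ≫ τ = pullback.diagonal t := by
    apply pullback.hom_ext
    · rw [Category.assoc, pullback.lift_fst, reassoc_of% hγ', h1, pullback.diagonal_fst]
    · rw [Category.assoc, pullback.lift_snd, reassoc_of% hγ', h2, pullback.diagonal_snd]
  have hopen : IsOpen (Set.range (pullback.diagonal t)) :=
    (pullback.diagonal t).isOpenEmbedding.isOpen_range
  have hV : IsOpen (τ ⁻¹' Set.range (pullback.diagonal t)) := hopen.preimage τ.continuous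
  have hVe : ∀ z : E, z ∈ τ ⁻¹' Set.range (pullback.diagonal t) ↔ e z ∈ Set.range γ := by
    intro z
    constructor
    · rintro ⟨n, hn⟩
      refine ⟨n, ?_⟩
      rw [← hΔκ, Scheme.Hom.comp_apply, hn, ← Scheme.Hom.comp_apply, hτκ]
    · rintro ⟨n, hn⟩
      have hz : γ' n = z := by
        apply e.isClosedEmbedding.injective
        rw [← Scheme.Hom.comp_apply, hγ', hn]
      refine ⟨n, ?_⟩
      rw [← hγτ, Scheme.Hom.comp_apply, hz]
  have hrange : Set.range e = zeros (psiN p N t) := Scheme.Pullback.range_fst _ _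
  constructor
  · have h3 : zeros (psiN p N t) \ Set.range γ = e '' (τ ⁻¹' Set.range (pullback.diagonal t))ᶜ := by
      ext z
      constructor
      · rintro ⟨hz, hz'⟩
        rw [← hrange] at hz
        obtain ⟨y, rfl⟩ := hz
        exact ⟨y, fun h => hz' ((hVe y).1 h), rfl⟩
      · rintro ⟨y, hy, rfl⟩
        exact ⟨by rw [← hrange]; exact ⟨y, rfl⟩, fun h => hy ((hVe y).2 h)⟩
    rw [h3]
    exact e.isClosedEmbedding.isClosedMap _ hV.isClosed_compl
  · rintro _ ⟨n, rfl⟩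
    rw [← hrange]
    exact ⟨γ' n, by rw [← Scheme.Hom.comp_apply, hγ']⟩

theorem isPullback_graph (s : Spec (CommRingCat.of k) ⟶ N.toScheme) (hs : s ≫ N.ι ≫ p = 𝟙 _) :
    IsPullback (s ≫ N.ι) s (fib p (N.ι ≫ p) s hs) (graph p N) := by
  have h1 : IsPullback ((s ≫ N.ι) ≫ p) s s (graph p N ≫ pullback.snd p (N.ι ≫ p)) := by
    have h2 : (s ≫ N.ι) ≫ p = 𝟙 _ := by rw [Category.assoc, hs]
    rw [h2, graph, pullback.lift_snd]
    exact IsPullback.of_horiz_isIso ⟨by simp⟩
  refine IsPullback.of_right h1 ?_ (isPullback_fib p (N.ι ≫ p) s hs).flip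
  apply pullback.hom_ext
  · rw [Category.assoc, fib_fst, Category.comp_id, graph, Category.assoc, pullback.lift_fst]
  · have h2 : graph p N ≫ pullback.snd p (N.ι ≫ p) = 𝟙 _ := pullback.lift_snd _ _ _
    rw [Category.assoc, fib_snd, Category.assoc s (graph p N), h2, Category.comp_id,
      Category.assoc, reassoc_of% hs]

/-- **(c)** The translates of étale coordinates. -/
theorem stmtC (k : Type u) [Field k] : StmtC k := by
  intro X p _ d N t _ ht
  obtain ⟨γ, h1, h2, h3⟩ := exists_gamma p N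
  obtain ⟨hcl, hsub⟩ := isClosed_compl p N t ht γ h1 h2
  let O₀ : (UN p N).toScheme.Opens := ⟨(zeros (psiN p N t) \ Set.range γ)ᶜ, hcl.isOpen_compl⟩
  let O : (XN p N).Opens := (UN p N).ι ''ᵁ O₀
  have hO : O ≤ UN p N := by
    rintro _ ⟨z, -, rfl⟩
    exact z.2
  have hclg : IsClosedImmersion (graph p N) := by
    have h4 : IsClosedImmersion (graph p N ≫ pullback.snd p (N.ι ≫ p)) := by
      rw [graph, pullback.lift_snd]
      infer_instance
    exact IsClosedImmersion.of_comp _ (pullback.snd p (N.ι ≫ p))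
  have hset : (O : Set (XN p N)) ∩ (UN p N).ι '' zeros (psiN p N t) = Set.range (graph p N) := by
    ext z
    constructor
    · rintro ⟨⟨u, hu, rfl⟩, v, hv, hvu⟩
      obtain rfl : v = u := (UN p N).ι.isOpenEmbedding.injective hvu
      by_contra hcon
      refine hu ⟨hv, ?_⟩
      rintro ⟨n, hn⟩
      exact hcon ⟨n, by rw [← h3, Scheme.Hom.comp_apply, hn]; exact hvu⟩
    · rintro ⟨n, rfl⟩
      rw [← h3, Scheme.Hom.comp_apply]
      exact ⟨⟨γ n, fun h => h.2 ⟨n, rfl⟩, rfl⟩, ⟨γ n, hsub ⟨n, rfl⟩, rfl⟩⟩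
  have hΦ : sub ((XN p N).homOfLE hO ≫ aN p N ≫ t) (O.ι ≫ pullback.snd p (N.ι ≫ p) ≫ t) =
      (XN p N).homOfLE hO ≫ psiN p N t := by
    rw [comp_sub]
    congr 1
    rw [← Scheme.homOfLE_ι (XN p N) hO]
    simp only [Category.assoc]
  let D : Dat (pullback.fst p (N.ι ≫ p) ≫ p) d :=
    { W := O
      Φ := sub ((XN p N).homOfLE hO ≫ aN p N ≫ t) (O.ι ≫ pullback.snd p (N.ι ≫ p) ≫ t)
      over := by
        rw [sub_over, Category.assoc, Category.assoc, ht, morphismRestrict_ι_assoc,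
          Scheme.homOfLE_ι_assoc]
      closed := by
        rw [hΦ, Dat.image_zeros_res, hset]
        exact (graph p N).isClosedEmbedding.isClosed_range }
  have hZ : D.Z = Set.range (graph p N) := by
    change O.ι '' zeros (sub _ _) = _
    rw [hΦ, Dat.image_zeros_res, hset]
  refine ⟨D, hO, rfl, hZ, fun s hs => ⟨?_, ?_⟩⟩
  · rw [Dat.pull_Z, hZ]
    exact (range_of_isPullback (isPullback_graph p N s hs)).symm
  · have hle : fib p (N.ι ≫ p) s hs ⁻¹ᵁ O ≤ N := by
      intro z hz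
      have h5 : pullback.fst p (N.ι ≫ p) (fib p (N.ι ≫ p) s hs z) ∈ N := hO hz
      rw [← Scheme.Hom.comp_apply, fib_fst] at h5
      exact h5
    have h6 : (fib p (N.ι ≫ p) s hs ∣_ O) ≫ (XN p N).homOfLE hO ≫ aN p N = X.homOfLE hle := by
      rw [← cancel_mono N.ι]
      simp only [Category.assoc, morphismRestrict_ι, Scheme.homOfLE_ι_assoc,
        morphismRestrict_ι_assoc, fib_fst, Category.comp_id, Scheme.homOfLE_ι]
    have h7 : (fib p (N.ι ≫ p) s hs ∣_ O) ≫ (XN p N).homOfLE hO ≫ aN p N ≫ t =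
        X.homOfLE hle ≫ t := by
      rw [← h6]
      simp only [Category.assoc]
    have h8 : (fib p (N.ι ≫ p) s hs ∣_ O) ≫ O.ι ≫ pullback.snd p (N.ι ≫ p) ≫ t =
        X.homOfLE hle ≫ (N.ι ≫ p) ≫ s ≫ t := by
      rw [morphismRestrict_ι_assoc, fib_snd_assoc, ← Scheme.homOfLE_ι X hle]
      simp only [Category.assoc]
    have key : (fib p (N.ι ≫ p) s hs ∣_ O) ≫
        sub ((XN p N).homOfLE hO ≫ aN p N ≫ t) (O.ι ≫ pullback.snd p (N.ι ≫ p) ≫ t) =
        X.homOfLE hle ≫ sub t ((N.ι ≫ p) ≫ s ≫ t) := by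
      rw [comp_sub, comp_sub, h7, h8]
    exact ⟨hle, key⟩

end

end

end Groth.Agent.Sga4h.H13
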