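import Groth.Agent.Sga4h.H13.FamC
import Groth.Agent.Sga4h.H926.FixDec

/-!
# The number of fixed points in terms of local coordinates
-/

set_option autoImplicit false
universe u
open CategoryTheory CategoryTheory.Limits AlgebraicGeometry Opposite

namespace Groth.Agent.Sga4h.H13

open Groth.Agent.Sga4h.H926

noncomputable section

variable {k : Type u} [Field k] {d : ℕ}

section

variable {X : Scheme.{u}} (p : X ⟶ Spec (CommRingCat.of k)) (f : X ⟶ X) (hf : f ≫ p = p)
  {U N : X.Opens} (h₁ : N ≤ U) (h₂ : N ≤ f ⁻¹ᵁ U) (t : U.toScheme ⟶ Aff k d)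

/-- The restriction of `f` to `N ⟶ U`. -/
def bD : N.toScheme ⟶ U.toScheme := X.homOfLE h₂ ≫ (f ∣_ U)

@[reassoc]
theorem bD_ι : bD f h₂ ≫ U.ι = N.ι ≫ f := by
  rw [bD, Category.assoc, morphismRestrict_ι, Scheme.homOfLE_ι_assoc]

/-- `t - t ∘ f` on `N`. -/
def psiD : N.toScheme ⟶ Aff k d := sub (X.homOfLE h₁ ≫ t) (bD f h₂ ≫ t)

/-- The part of the fixed point scheme in `N`. -/
abbrev FN (N : X.Opens) : (FinFr.fixScheme p f hf).Opens := FixDec.fixι p f hf ⁻¹ᵁ N

/-- The map `FN ⟶ N`. -/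
abbrev gN (N : X.Opens) : (FN p f hf N).toScheme ⟶ N.toScheme := FixDec.fixι p f hf ∣_ N

theorem gN_eq : gN p f hf N ≫ X.homOfLE h₁ = gN p f hf N ≫ bD f h₂ := by
  rw [← cancel_mono U.ι, Category.assoc, Scheme.homOfLE_ι, Category.assoc, bD_ι,
    morphismRestrict_ι_assoc, FixDec.fixι_comp, morphismRestrict_ι]

instance : Mono (gN p f hf N) := by
  have h : Mono (gN p f hf N ≫ N.ι) := by
    rw [morphismRestrict_ι]
    infer_instance
  exact mono_of_mono _ N.ι

theorem gN_psiD : gN p f hf N ≫ psiD f h₁ h₂ t =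
    ((gN p f hf N ≫ X.homOfLE h₁ ≫ t) ≫ Aff.str k d) ≫ origin k d := by
  have h : gN p f hf N ≫ bD f h₂ ≫ t = gN p f hf N ≫ X.homOfLE h₁ ≫ t := by
    rw [← Category.assoc, ← gN_eq p f hf h₁ h₂, Category.assoc]
  rw [psiD, comp_sub, h, sub_self']

/-- The comparison of the fixed point scheme with the zero scheme. -/
def mN : (FN p f hf N).toScheme ⟶ zeroScheme (psiD f h₁ h₂ t) :=
  pullback.lift (gN p f hf N) ((gN p f hf N ≫ X.homOfLE h₁ ≫ t) ≫ Aff.str k d)
    (gN_psiD p f hf h₁ h₂ t)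

@[reassoc (attr := simp)]
theorem mN_fst : mN p f hf h₁ h₂ t ≫ pullback.fst (psiD f h₁ h₂ t) (origin k d) = gN p f hf N :=
  pullback.lift_fst _ _ _

theorem mN_snd (ht : t ≫ Aff.str k d = U.ι ≫ p) :
    mN p f hf h₁ h₂ t ≫ pullback.snd (psiD f h₁ h₂ t) (origin k d) =
      (FN p f hf N).ι ≫ FinFr.fixSchemeTo p f hf := by
  have h : mN p f hf h₁ h₂ t ≫ pullback.snd (psiD f h₁ h₂ t) (origin k d) =
    (gN p f hf N ≫ X.homOfLE h₁ ≫ t) ≫ Aff.str k d := pullback.lift_snd _ _ _
  rw [h, Category.assoc, Category.assoc, ht, Scheme.homOfLE_ι_assoc, morphismRestrict_ι_assoc]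
  rfl

variable (ht : t ≫ Aff.str k d = U.ι ≫ p)

include hf ht in
theorem eq_on_zero : pullback.fst (psiD f h₁ h₂ t) (origin k d) ≫ X.homOfLE h₁ ≫ t =
    pullback.fst (psiD f h₁ h₂ t) (origin k d) ≫ bD f h₂ ≫ t := by
  apply eq_of_sub _ _ _ (pullback.snd (psiD f h₁ h₂ t) (origin k d))
  · rw [← comp_sub]
    exact pullback.condition
  · rw [Category.assoc, Category.assoc, ht, Category.assoc, Category.assoc, ht,
      Scheme.homOfLE_ι_assoc, bD_ι_assoc, hf]

/-- The map from the zero scheme to `U ×_{𝔸} U`. -/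
def tauD : zeroScheme (psiD f h₁ h₂ t) ⟶ pullback t t :=
  pullback.lift (pullback.fst (psiD f h₁ h₂ t) (origin k d) ≫ X.homOfLE h₁)
    (pullback.fst (psiD f h₁ h₂ t) (origin k d) ≫ bD f h₂) (by
      rw [Category.assoc, Category.assoc]
      exact eq_on_zero p f hf h₁ h₂ t ht)

@[reassoc]
theorem tauD_fst : tauD p f hf h₁ h₂ t ht ≫ pullback.fst t t =
    pullback.fst (psiD f h₁ h₂ t) (origin k d) ≫ X.homOfLE h₁ := pullback.lift_fst _ _ _

@[reassoc]
theorem tauD_snd : tauD p f hf h₁ h₂ t ht ≫ pullback.snd t t =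
    pullback.fst (psiD f h₁ h₂ t) (origin k d) ≫ bD f h₂ := pullback.lift_snd _ _ _

theorem isPullback_mN : IsPullback (mN p f hf h₁ h₂ t) (gN p f hf N ≫ X.homOfLE h₁)
    (tauD p f hf h₁ h₂ t ht) (pullback.diagonal t) := by
  have key : ∀ s : PullbackCone (tauD p f hf h₁ h₂ t ht) (pullback.diagonal t),
      ∃ l : s.pt ⟶ (FN p f hf N).toScheme,
        l ≫ gN p f hf N = s.fst ≫ pullback.fst (psiD f h₁ h₂ t) (origin k d) ∧
        s.snd = s.fst ≫ pullback.fst (psiD f h₁ h₂ t) (origin k d) ≫ X.homOfLE h₁ := by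
    intro s
    have h3 : s.snd = s.fst ≫ pullback.fst (psiD f h₁ h₂ t) (origin k d) ≫ X.homOfLE h₁ := by
      have := congrArg (· ≫ pullback.fst t t) s.condition
      simp only [Category.assoc, tauD_fst, pullback.diagonal_fst, Category.comp_id] at this
      exact this.symm
    have h4 : s.snd = s.fst ≫ pullback.fst (psiD f h₁ h₂ t) (origin k d) ≫ bD f h₂ := by
      have := congrArg (· ≫ pullback.snd t t) s.condition
      simp only [Category.assoc, tauD_snd, pullback.diagonal_snd, Category.comp_id] at this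
      exact this.symm
    have h5 : (s.fst ≫ pullback.fst (psiD f h₁ h₂ t) (origin k d) ≫ N.ι) ≫ f =
        s.fst ≫ pullback.fst (psiD f h₁ h₂ t) (origin k d) ≫ N.ι := by
      have := congrArg (· ≫ U.ι) (h3.symm.trans h4)
      simp only [Category.assoc, Scheme.homOfLE_ι, bD_ι] at this
      simp only [Category.assoc]
      exact this.symm
    let l := (isPullback_morphismRestrict (FixDec.fixι p f hf) N).lift
      (s.fst ≫ pullback.fst (psiD f h₁ h₂ t) (origin k d))
      (FixDec.fixLift p f hf _ h5) (by rw [FixDec.fixLift_ι, Category.assoc])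
    exact ⟨l, IsPullback.lift_fst _ _ _ _, h3⟩
  refine ⟨⟨?_⟩, ⟨PullbackCone.IsLimit.mk _ (fun s => (key s).choose) (fun s => ?_) (fun s => ?_)
    (fun s m h3 _ => ?_)⟩⟩
  · apply pullback.hom_ext
    · rw [Category.assoc, tauD_fst, mN_fst_assoc, Category.assoc, pullback.diagonal_fst,
        Category.comp_id]
    · rw [Category.assoc, tauD_snd, mN_fst_assoc, Category.assoc, pullback.diagonal_snd,
        Category.comp_id, gN_eq p f hf h₁ h₂]
  · rw [← cancel_mono (pullback.fst (psiD f h₁ h₂ t) (origin k d)), Category.assoc, mN_fst,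
      (key s).choose_spec.1]
  · rw [← Category.assoc, (key s).choose_spec.1, (key s).choose_spec.2, Category.assoc]
  · rw [← cancel_mono (gN p f hf N), (key s).choose_spec.1, ← h3, Category.assoc, mN_fst]

include ht in
theorem isOpenImmersion_mN [Etale t] : IsOpenImmersion (mN p f hf h₁ h₂ t) :=
  MorphismProperty.of_isPullback (isPullback_mN p f hf h₁ h₂ t ht).flip
    (inferInstance : IsOpenImmersion (pullback.diagonal t))

variable (x : X) (hxZ : N.ι '' zeros (psiD f h₁ h₂ t) = {x})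

include hxZ in
theorem fixι_eq (y : (FN p f hf N).toScheme) : FixDec.fixι p f hf ((FN p f hf N).ι y) = x := by
  have h : N.ι (pullback.fst (psiD f h₁ h₂ t) (origin k d) (mN p f hf h₁ h₂ t y)) ∈
      N.ι '' zeros (psiD f h₁ h₂ t) := by
    refine ⟨_, ?_, rfl⟩
    rw [zeros, ← Scheme.Pullback.range_fst]
    exact ⟨_, rfl⟩
  rw [hxZ, ← Scheme.Hom.comp_apply, ← Scheme.Hom.comp_apply, mN_fst_assoc, morphismRestrict_ι] at h
  exact h

include ht hxZ in
theorem gdim_FN [Etale t] (y₀ : FinFr.fixScheme p f hf) (hy₀ : FixDec.fixι p f hf y₀ = x)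
    (hxN : x ∈ N) :
    gdim ((FN p f hf N).ι ≫ FinFr.fixSchemeTo p f hf) = mult (psiD f h₁ h₂ t) := by
  have hopen := isOpenImmersion_mN p f hf h₁ h₂ t ht
  have hsurj : Function.Surjective (mN p f hf h₁ h₂ t) := by
    intro z
    have h3 : y₀ ∈ Set.range (FN p f hf N).ι := by
      rw [Scheme.Opens.range_ι]
      change FixDec.fixι p f hf y₀ ∈ N
      rw [hy₀]
      exact hxN
    obtain ⟨y, hy⟩ := h3
    refine ⟨y, ?_⟩
    apply (pullback.fst (psiD f h₁ h₂ t) (origin k d)).isClosedEmbedding.injective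
    apply N.ι.isOpenEmbedding.injective
    have h4 : N.ι (pullback.fst (psiD f h₁ h₂ t) (origin k d) z) ∈
        N.ι '' zeros (psiD f h₁ h₂ t) := by
      refine ⟨_, ?_, rfl⟩
      rw [zeros, ← Scheme.Pullback.range_fst]
      exact ⟨_, rfl⟩
    rw [hxZ] at h4
    rw [h4, ← Scheme.Hom.comp_apply, ← Scheme.Hom.comp_apply, mN_fst_assoc, morphismRestrict_ι,
      Scheme.Hom.comp_apply, hy, hy₀]
  have hepi : Epi (mN p f hf h₁ h₂ t).base := by
    rw [TopCat.epi_iff_surjective]
    exact hsurj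
  have hiso := IsOpenImmersion.isIso (mN p f hf h₁ h₂ t)
  exact gdim_of_iso (mN p f hf h₁ h₂ t) _ _ (mN_snd p f hf h₁ h₂ t ht)

end

/-- **(d)** The number of fixed points in terms of local coordinates. -/
theorem stmtD (k : Type u) [Field k] : StmtD k := by
  intro X p _ f hf _ d ι _ x hx hrange U t _ ht N hxN h₁ h₂ hZ
  have hZ' : ∀ i, (N i).ι '' zeros (psiD f (h₁ i) (h₂ i) (t i)) = {x i} := by
    intro i
    rw [psiD, bD, Category.assoc]
    exact hZ i
  have hfix : ∀ i (y : (FN p f hf (N i)).toScheme),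
      FixDec.fixι p f hf ((FN p f hf (N i)).ι y) = x i := fun i y =>
    fixι_eq p f hf (h₁ i) (h₂ i) (t i) (x i) (hZ' i) y
  have hrange' : Set.range x = Set.range (FixDec.fixι p f hf) := hrange
  have hd : ∀ i j, i ≠ j → Disjoint (Set.range (FN p f hf (N i)).ι) (Set.range (FN p f hf (N j)).ι) := by
    intro i j hij
    rw [Set.disjoint_left]
    rintro _ ⟨y, rfl⟩ ⟨z, hz⟩
    apply hij
    apply hx
    rw [← hfix i y, ← hfix j z, hz]
  have hc : ∀ y : FinFr.fixScheme p f hf, ∃ j, y ∈ Set.range (FN p f hf (N j)).ι := by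
    intro y
    have h3 : FixDec.fixι p f hf y ∈ Set.range x := by
      rw [hrange']
      exact ⟨y, rfl⟩
    obtain ⟨j, hj⟩ := h3
    refine ⟨j, ?_⟩
    rw [Scheme.Opens.range_ι]
    change FixDec.fixι p f hf y ∈ N j
    rw [← hj]
    exact hxN j
  have hclosed : ∀ i, IsClosedImmersion (FN p f hf (N i)).ι := by
    intro i
    have h3 : IsClosed (Set.range (FN p f hf (N i)).ι) := by
      have h4 : Set.range (FN p f hf (N i)).ι =
          (⋃ j : {j // j ≠ i}, Set.range (FN p f hf (N j.1)).ι)ᶜ := by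
        ext y
        rw [Set.mem_compl_iff, Set.mem_iUnion]
        constructor
        · rintro hy ⟨⟨j, hj⟩, hyj⟩
          exact Set.disjoint_left.1 (hd i j hj.symm) hy hyj
        · intro hy
          obtain ⟨j, hj⟩ := hc y
          by_cases hij : j = i
          · rw [← hij]
            exact hj
          · exact (hy ⟨⟨j, hij⟩, hj⟩).elim
      rw [h4]
      refine IsOpen.isClosed_compl (isOpen_iUnion fun j => ?_)
      exact (FN p f hf (N j.1)).ι.isOpenEmbedding.isOpen_range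
    exact IsClosedImmersion.of_isPreimmersion _ h3
  have hfin : ∀ i, GamDim.FinΓ ((FN p f hf (N i)).ι ≫ FinFr.fixSchemeTo p f hf) := by
    intro i
    have := hclosed i
    exact FixDec.finΓ_of_isFinite _
  rw [FixDec.fixCount_eq, GamDim.dimΓ_sum (FinFr.fixSchemeTo p f hf)
    (fun i => (FN p f hf (N i)).ι) hd hc hfin]
  refine Finset.sum_congr rfl fun i _ => ?_
  have h5 : x i ∈ Set.range (FixDec.fixι p f hf) := by
    rw [← hrange']
    exact ⟨i, rfl⟩
  obtain ⟨y₀, hy₀⟩ := h5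
  have h6 := gdim_FN p f hf (h₁ i) (h₂ i) (t i) (ht i) (x i) (hZ' i) y₀ hy₀ (hxN i)
  rw [psiD, bD, Category.assoc] at h6
  exact h6

end

end Groth.Agent.Sga4h.H13
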