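import Groth.Agent.Sga4h.H13.FamBase
import Mathlib.Topology.LocallyConstant.Basic

/-!
# Data on `X × S` with finite flat zero scheme; number of points of an étale zero scheme
-/

set_option autoImplicit false
universe u
open CategoryTheory CategoryTheory.Limits AlgebraicGeometry Opposite

namespace Groth.Agent.Sga4h.H13

noncomputable section

variable {k : Type u} [Field k] {d : ℕ}

theorem mem_range_homOfLE {X : Scheme.{u}} {O W : X.Opens} (h : O ≤ W) (w : W.toScheme)
    (hw : W.ι w ∈ O) : w ∈ Set.range (X.homOfLE h) := by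
  have h2 : W.ι w ∈ Set.range O.ι := by
    rw [Scheme.Opens.range_ι]
    exact hw
  obtain ⟨v, hv⟩ := h2
  refine ⟨v, ?_⟩
  apply W.ι.isOpenEmbedding.injective
  rw [← Scheme.Hom.comp_apply, Scheme.homOfLE_ι]
  exact hv

namespace Dat

variable {Y Y' : Scheme.{u}} {y : Y ⟶ Spec (CommRingCat.of k)}

/-- The datum defined by an open immersion `j : T ⟶ Y` and a map `φ : T ⟶ 𝔸^d`. -/
def ofOpen {T : Scheme.{u}} (j : T ⟶ Y) [IsOpenImmersion j] (φ : T ⟶ Aff k d)
    (h : φ ≫ Aff.str k d = j ≫ y) (hc : IsClosed (j '' zeros φ)) : Dat y d where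
  W := j.opensRange
  Φ := j.isoOpensRange.inv ≫ φ
  over := by
    rw [Category.assoc, h, Scheme.Hom.isoOpensRange_inv_comp_assoc]
  closed := by
    convert hc using 1
    ext z
    constructor
    · rintro ⟨w, hw, rfl⟩
      refine ⟨j.isoOpensRange.inv w, ?_, ?_⟩
      · change φ (j.isoOpensRange.inv w) ∈ Set.range (origin k d)
        rw [← Scheme.Hom.comp_apply]
        exact hw
      · rw [← Scheme.Hom.comp_apply, Scheme.Hom.isoOpensRange_inv_comp]
    · rintro ⟨w, hw, rfl⟩
      refine ⟨j.isoOpensRange.hom w, ?_, ?_⟩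
      · change (j.isoOpensRange.inv ≫ φ) (j.isoOpensRange.hom w) ∈ Set.range (origin k d)
        rw [← Scheme.Hom.comp_apply, Iso.hom_inv_id_assoc]
        exact hw
      · rw [← Scheme.Hom.comp_apply, Scheme.Hom.isoOpensRange_hom_ι]

/-- The zero scheme of the pulled back datum. -/
theorem isPullback_pull (D : Dat y d) (g : Y' ⟶ Y) :
    IsPullback (zeroMap (g ∣_ D.W) D.Φ)
      (pullback.fst (D.pull g).Φ (origin k d) ≫ (D.pull g).W.ι)
      (pullback.fst D.Φ (origin k d) ≫ D.W.ι) g :=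
  (isPullback_zeroMap (g ∣_ D.W) D.Φ).paste_vert (isPullback_morphismRestrict g D.W)

theorem fst_ι_y (D : Dat y d) : (pullback.fst D.Φ (origin k d) ≫ D.W.ι) ≫ y =
    pullback.snd D.Φ (origin k d) := by
  rw [Category.assoc, ← D.over, pullback.condition_assoc, origin_str, Category.comp_id]

end Dat

theorem isPullback_fib {X S : Scheme.{u}} (p : X ⟶ Spec (CommRingCat.of k))
    (b : S ⟶ Spec (CommRingCat.of k)) (s : Spec (CommRingCat.of k) ⟶ S) (hs : s ≫ b = 𝟙 _) :
    IsPullback (fib p b s hs) p (pullback.snd p b) s := by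
  have h1 : IsPullback (fib p b s hs ≫ pullback.fst p b) p p (s ≫ b) := by
    rw [fib_fst, hs]
    exact IsPullback.of_horiz_isIso ⟨by simp⟩
  exact IsPullback.of_right h1 (fib_snd p b s hs) (IsPullback.of_hasPullback p b)

/-- The zero scheme of a member of a family. -/
theorem isPullback_member {X S : Scheme.{u}} (p : X ⟶ Spec (CommRingCat.of k))
    (b : S ⟶ Spec (CommRingCat.of k)) (D : Dat (pullback.fst p b ≫ p) d)
    (s : Spec (CommRingCat.of k) ⟶ S) (hs : s ≫ b = 𝟙 _) :
    IsPullback (zeroMap (fib p b s hs ∣_ D.W) D.Φ)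
      (pullback.snd (D.pull (fib p b s hs)).Φ (origin k d))
      ((pullback.fst D.Φ (origin k d) ≫ D.W.ι) ≫ pullback.snd p b) s := by
  have h1 := (D.isPullback_pull (fib p b s hs)).paste_vert (isPullback_fib p b s hs)
  have h2 := (D.pull (fib p b s hs)).fst_ι_y
  have h3 : (pullback.fst (D.pull (fib p b s hs)).Φ (origin k d) ≫
      (D.pull (fib p b s hs)).W.ι) ≫ p = pullback.snd (D.pull (fib p b s hs)).Φ (origin k d) :=
    Eq.trans (congrArg _ (fib_fst_assoc p b s hs p).symm) h2
  rw [← h3]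
  exact h1

/-- **Constancy of the multiplicity** in a family with finite flat zero scheme. -/
theorem mult_member_eq {X S : Scheme.{u}} (p : X ⟶ Spec (CommRingCat.of k))
    (b : S ⟶ Spec (CommRingCat.of k)) [ConnectedSpace S] (D : Dat (pullback.fst p b ≫ p) d)
    [IsFinite ((pullback.fst D.Φ (origin k d) ≫ D.W.ι) ≫ pullback.snd p b)]
    [Flat ((pullback.fst D.Φ (origin k d) ≫ D.W.ι) ≫ pullback.snd p b)]
    [LocallyOfFinitePresentation ((pullback.fst D.Φ (origin k d) ≫ D.W.ι) ≫ pullback.snd p b)]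
    (s₀ s₁ : Spec (CommRingCat.of k) ⟶ S) (h₀ : s₀ ≫ b = 𝟙 _) (h₁ : s₁ ≫ b = 𝟙 _) :
    mult (D.pull (fib p b s₀ h₀)).Φ = mult (D.pull (fib p b s₁ h₁)).Φ := by
  have key : ∀ (s : Spec (CommRingCat.of k) ⟶ S) (hs : s ≫ b = 𝟙 _),
      mult (D.pull (fib p b s hs)).Φ =
      ((pullback.fst D.Φ (origin k d) ≫ D.W.ι) ≫ pullback.snd p b).finrank (s default) := by
    intro s hs
    have h1 := isPullback_member p b D s hs
    have h2 : IsFinite (pullback.snd (D.pull (fib p b s hs)).Φ (origin k d)) :=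
      MorphismProperty.of_isPullback h1 ‹_›
    unfold mult
    rw [gdim_eq_finrank _ default]
    exact Scheme.Hom.finrank_of_isPullback _ _ _ _ h1 default
  rw [key, key]
  exact (Scheme.Hom.isLocallyConstant_finrank
    ((pullback.fst D.Φ (origin k d) ≫ D.W.ι) ≫ pullback.snd p b)).apply_eq_of_preconnectedSpace _ _

theorem finite_member {X S : Scheme.{u}} (p : X ⟶ Spec (CommRingCat.of k))
    (b : S ⟶ Spec (CommRingCat.of k)) (D : Dat (pullback.fst p b ≫ p) d)
    [IsFinite ((pullback.fst D.Φ (origin k d) ≫ D.W.ι) ≫ pullback.snd p b)]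
    (s : Spec (CommRingCat.of k) ⟶ S) (hs : s ≫ b = 𝟙 _) :
    IsFinite (pullback.snd (D.pull (fib p b s hs)).Φ (origin k d)) :=
  MorphismProperty.of_isPullback (isPullback_member p b D s hs) ‹_›

set_option backward.isDefEq.respectTransparency.types false in
/-- The number of points of a finite étale scheme over a separably closed field. -/
theorem card_eq_gdim [IsSepClosed k] {F : Scheme.{u}} (c : F ⟶ Spec (CommRingCat.of k)) [IsFinite c]
    [Etale c] : Finite F ∧ Nat.card F = gdim c := by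
  let _ : Algebra k (Γ(F, ⊤) : Type u) :=
    RingHom.toAlgebra ((Scheme.ΓSpecIso (CommRingCat.of k)).inv ≫ c.appTop).hom
  have hF : IsAffine F := isAffine_of_isAffineHom c
  have hc : c = F.isoSpec.hom ≫ Spec.map (CommRingCat.ofHom (algebraMap k (Γ(F, ⊤) : Type u))) := by
    change c = F.toSpecΓ ≫ Spec.map ((Scheme.ΓSpecIso (CommRingCat.of k)).inv ≫ c.appTop)
    rw [Spec.map_comp, ← Scheme.toSpecΓ_naturality_assoc, toSpecΓ_SpecMap_ΓSpecIso_inv,
      Category.comp_id]
  have het : Etale (Spec.map (CommRingCat.ofHom (algebraMap k (Γ(F, ⊤) : Type u)))) := by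
    have h1 : Etale (F.isoSpec.inv ≫ c) := inferInstance
    rwa [hc, Iso.inv_hom_id_assoc] at h1
  have het' : Algebra.Etale k (Γ(F, ⊤) : Type u) := by
    rw [HasRingHomProperty.Spec_iff (P := @Etale)] at het
    exact RingHom.etale_algebraMap.mp het
  have hfin : Module.Finite k (Γ(F, ⊤) : Type u) := Algebra.FormallyUnramified.finite_of_free k _
  have hart : IsArtinianRing (Γ(F, ⊤) : Type u) := isArtinian_of_tower k inferInstance
  have e := Algebra.FormallyEtale.equivPiOfIsSepClosed k (Γ(F, ⊤) : Type u)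
  have e2 : F ≃ PrimeSpectrum (Γ(F, ⊤) : Type u) := F.isoSpec.hom.homeomorph.toEquiv
  have hfs : Finite (PrimeSpectrum (Γ(F, ⊤) : Type u)) := inferInstance
  refine ⟨Finite.of_equiv _ e2.symm, ?_⟩
  rw [Nat.card_congr e2]
  change _ = Module.finrank k (Γ(F, ⊤) : Type u)
  rw [e.toLinearEquiv.finrank_eq]
  have := Fintype.ofFinite (PrimeSpectrum (Γ(F, ⊤) : Type u))
  rw [Module.finrank_pi, Nat.card_eq_fintype_card]

/-- **The number of zeros** of a datum étale at its zeros. -/
theorem exists_points [IsSepClosed k] {X : Scheme.{u}} {q : X ⟶ Spec (CommRingCat.of k)}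
    (D : Dat q d) [IsFinite (pullback.snd D.Φ (origin k d))] (O : X.Opens) (h : O ≤ D.W)
    (hZ : D.Z ⊆ O) (het : Etale (X.homOfLE h ≫ D.Φ)) :
    ∃ y : Fin (mult D.Φ) → X, Function.Injective y ∧ D.Z = Set.range y := by
  have hz : zeros D.Φ ⊆ Set.range (X.homOfLE h) := by
    intro w hw
    exact mem_range_homOfLE h w (hZ ⟨w, hw, rfl⟩)
  have hiso := isIso_zeroMap (X.homOfLE h) D.Φ hz
  have h1 : Etale (pullback.snd (X.homOfLE h ≫ D.Φ) (origin k d)) := inferInstance
  have h2 : Etale (pullback.snd D.Φ (origin k d)) := by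
    have h3 : Etale (inv (zeroMap (X.homOfLE h) D.Φ) ≫
        pullback.snd (X.homOfLE h ≫ D.Φ) (origin k d)) := inferInstance
    rwa [← zeroMap_snd, IsIso.inv_hom_id_assoc] at h3
  obtain ⟨hf, hcard⟩ := card_eq_gdim (pullback.snd D.Φ (origin k d))
  let e : Fin (mult D.Φ) ≃ (zeroScheme D.Φ : Scheme.{u}) :=
    (Finite.equivFinOfCardEq hcard).symm
  refine ⟨fun i => (pullback.fst D.Φ (origin k d) ≫ D.W.ι) (e i), ?_, ?_⟩
  · have hinj : Function.Injective (pullback.fst D.Φ (origin k d) ≫ D.W.ι) := by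
      rw [Scheme.Hom.comp_base]
      exact D.W.ι.isOpenEmbedding.injective.comp
        (pullback.fst D.Φ (origin k d)).isClosedEmbedding.injective
    exact hinj.comp e.injective
  · have h4 : Set.range (fun i => (pullback.fst D.Φ (origin k d) ≫ D.W.ι) (e i)) =
        Set.range (pullback.fst D.Φ (origin k d) ≫ D.W.ι) := e.surjective.range_comp _
    rw [h4]
    have h5 : Set.range (pullback.fst D.Φ (origin k d) ≫ D.W.ι) =
        D.W.ι '' Set.range (pullback.fst D.Φ (origin k d)) := by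
      rw [← Set.range_comp]
      rfl
    rw [h5, Scheme.Pullback.range_fst]
    rfl

end

end Groth.Agent.Sga4h.H13
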