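import Groth.Agent.S2082
import Groth.Agent.Ega4A.RegCM
import Groth.Agent.Ega4A.RegEtale
import Groth.Agent.UnramA.SmoothDim
import Mathlib.RingTheory.Unramified.Finite
import Mathlib.RingTheory.RegularLocalRing.Polynomial

/-!
# Finite algebras between algebras étale over polynomial rings are flat
-/

set_option autoImplicit false
universe u

open IsLocalRing

namespace Groth.Agent.Sga4h.H13.FamFlat

/-- Miracle flatness for a quasi-finite algebra at a prime. -/
theorem flat_atPrime {A C : Type u} [CommRing A] [CommRing C] [Algebra A C] (q : Ideal C)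
    [q.IsPrime] (n : Ideal A) [n.IsPrime] [q.LiesOver n]
    [IsRegularLocalRing (Localization.AtPrime n)]
    [IsRegularLocalRing (Localization.AtPrime q)] [Algebra.QuasiFiniteAt A q]
    (hh : q.height = n.height) : Module.Flat A (Localization.AtPrime q) := by
  let _ := Localization.AtPrime.algebraOfLiesOver n q
  have : IsLocalHom (algebraMap (Localization.AtPrime n) (Localization.AtPrime q)) :=
    Localization.isLocalHom_localRingHom n q (algebraMap A C) (q.over_def n)
  have hCM : LocCoh.IsCohenMacaulayLocalRing (Localization.AtPrime q) :=
    Groth.Agent.Ega4A.RegCM.isCohenMacaulayLocalRing_of_isRegularLocalRing _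
  have hqf : Algebra.QuasiFinite A (Localization.AtPrime q) :=
    inferInstanceAs (Algebra.QuasiFiniteAt A q)
  have hqf1 : Algebra.QuasiFinite (Localization.AtPrime n) (Localization.AtPrime q) :=
    Algebra.QuasiFinite.of_restrictScalars A (Localization.AtPrime n) (Localization.AtPrime q)
  let I := (maximalIdeal (Localization.AtPrime n)).map
    (algebraMap (Localization.AtPrime n) (Localization.AtPrime q))
  have hqf2 : Algebra.QuasiFinite (Localization.AtPrime n) (Localization.AtPrime q ⧸ I) :=
    inferInstance
  have hqf3 : Algebra.QuasiFinite (Localization.AtPrime n ⧸ maximalIdeal (Localization.AtPrime n))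
      (Localization.AtPrime q ⧸ I) :=
    Algebra.QuasiFinite.of_restrictScalars (Localization.AtPrime n) _ _
  let _ : Field (Localization.AtPrime n ⧸ maximalIdeal (Localization.AtPrime n)) :=
    Ideal.Quotient.field _
  have hfin : Module.Finite (Localization.AtPrime n ⧸ maximalIdeal (Localization.AtPrime n))
      (Localization.AtPrime q ⧸ I) := Module.Finite.of_quasiFinite
  have hart : IsArtinianRing (Localization.AtPrime q ⧸ I) :=
    IsArtinianRing.of_finite (Localization.AtPrime n ⧸ maximalIdeal (Localization.AtPrime n)) _
  have hI : I ≠ ⊤ := by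
    have h1 : I ≤ maximalIdeal (Localization.AtPrime q) :=
      ((IsLocalRing.local_hom_TFAE (algebraMap (Localization.AtPrime n)
        (Localization.AtPrime q))).out 0 2).mp ‹_›
    intro h
    rw [h] at h1
    exact (IsLocalRing.maximalIdeal.isMaximal _).ne_top (top_le_iff.1 h1)
  have hnt : Nontrivial (Localization.AtPrime q ⧸ I) := Ideal.Quotient.nontrivial_iff.2 hI
  have hdim0 : ringKrullDim (Localization.AtPrime q ⧸ I) = 0 :=
    ringKrullDimZero_iff_ringKrullDim_eq_zero.mp inferInstance
  have hdim : ringKrullDim (Localization.AtPrime q) = ringKrullDim (Localization.AtPrime n) +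
      ringKrullDim (Localization.AtPrime q ⧸ I) := by
    rw [hdim0, add_zero, IsLocalization.AtPrime.ringKrullDim_eq_height q (Localization.AtPrime q),
      IsLocalization.AtPrime.ringKrullDim_eq_height n (Localization.AtPrime n), hh]
  have : Module.Flat (Localization.AtPrime n) (Localization.AtPrime q) := S2082.result hdim
  exact (Module.flat_iff_of_isLocalization (Localization.AtPrime n) n.primeCompl _).mp this

section Poly

variable (k : Type u) [Field k] (ι : Type u) [Finite ι]

theorem height_eq_card (P : Ideal (MvPolynomial ι k)) [P.IsMaximal] : P.height = Nat.card ι := by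
  obtain ⟨n, ⟨e⟩⟩ := Finite.exists_equiv_fin ι
  let f := (MvPolynomial.renameEquiv k e).toRingEquiv
  have hP' : (P.map f).IsMaximal := Ideal.map_isMaximal_of_equiv f
  have h1 : (P.map f).height = P.height := RingEquiv.height_map f P
  rw [← h1, Nat.card_congr e, Nat.card_fin]
  exact Ega4B.DimFT.height_eq_of_isMaximal_mvPolynomial_fin k n _

variable {k ι}

theorem height_eq_of_etale {C : Type u} [CommRing C] (g : MvPolynomial ι k →+* C) (hg : g.Etale)
    (q : Ideal C) [q.IsMaximal] : q.height = Nat.card ι := by
  algebraize [g]
  have : Algebra.Etale (MvPolynomial ι k) C := hg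
  have : IsNoetherianRing C := Algebra.FiniteType.isNoetherianRing (MvPolynomial ι k) C
  have : Algebra.QuasiFiniteAt (MvPolynomial ι k) q :=
    inferInstanceAs (Algebra.QuasiFinite (MvPolynomial ι k) (Localization.AtPrime q))
  have h1 : (q.under (MvPolynomial ι k)).IsMaximal := UnramA.SmoothDim.isMaximal_under q
  rw [UnramA.SmoothDim.height_eq_height_under (R := MvPolynomial ι k) q]
  exact height_eq_card k ι _

theorem isRegularRing_of_etale {C : Type u} [CommRing C] (g : MvPolynomial ι k →+* C)
    (hg : g.Etale) : IsRegularRing C := by
  algebraize [g]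
  have : Algebra.Etale (MvPolynomial ι k) C := hg
  exact Groth.Agent.Ega4A.RegEtale.isRegularRing_of_etale (MvPolynomial ι k) C

theorem isJacobsonRing_of_etale {C : Type u} [CommRing C] (g : MvPolynomial ι k →+* C)
    (hg : g.Etale) : IsJacobsonRing C := by
  algebraize [g]
  have : Algebra.Etale (MvPolynomial ι k) C := hg
  exact isJacobsonRing_of_finiteType (A := MvPolynomial ι k)

/-- A finite algebra `A → C` with `A` and `C` étale over the same polynomial ring over a field (no
compatibility required) is flat. -/
theorem flat_of_finite {A C : Type u} [CommRing A] [CommRing C] [Algebra A C] [Module.Finite A C]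
    (gA : MvPolynomial ι k →+* A) (hA : gA.Etale) (gC : MvPolynomial ι k →+* C) (hC : gC.Etale) :
    Module.Flat A C := by
  have hrA : IsRegularRing A := isRegularRing_of_etale gA hA
  have hrC : IsRegularRing C := isRegularRing_of_etale gC hC
  have hJ : IsJacobsonRing A := isJacobsonRing_of_etale gA hA
  refine Module.flat_of_isLocalized_maximal (R := A) (S := C) (M := C)
    (fun P _ => Localization.AtPrime P) (fun P _ => Algebra.linearMap C (Localization.AtPrime P)) ?_
  intro P _
  have hmax : (P.under A).IsMaximal := UnramA.SmoothDim.isMaximal_under P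
  have : Algebra.QuasiFiniteAt A P :=
    inferInstanceAs (Algebra.QuasiFinite A (Localization.AtPrime P))
  refine flat_atPrime P (P.under A) ?_
  rw [height_eq_of_etale gC hC P, height_eq_of_etale gA hA (P.under A)]

end Poly

end Groth.Agent.Sga4h.H13.FamFlat
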