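import Groth.Agent.Sga4h.H13.FamRing3
import Groth.Agent.Sga4h.H13.FamFlat
import Groth.Agent.UnramB.SmoothCrit
import Mathlib.RingTheory.LocalRing.ResidueField.Ideal

/-!
# The finite flat family
-/

set_option autoImplicit false
universe u

open TensorProduct Polynomial KaehlerDifferential

namespace Groth.Agent.Sga4h.H13.FamRing

variable {k : Type u} [Field k] {B : Type u} [CommRing B] [Algebra k B] {σ : Type u}

/-- evaluation at a point of `Spec R` -/
noncomputable def evS {R : Type u} [CommRing R] [Algebra k R] (s : R →ₐ[k] k) : R ⊗[k] B →ₐ[k] B :=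
  Algebra.TensorProduct.lift ((Algebra.ofId k B).comp s) (AlgHom.id k B) (fun _ _ => .all _ _)

@[simp]
theorem evS_tmul {R : Type u} [CommRing R] [Algebra k R] (s : R →ₐ[k] k) (r : R) (b : B) :
    evS s (r ⊗ₜ[k] b) = algebraMap k B (s r) * b := by
  simp [evS, Algebra.ofId_apply]

theorem includeRight_etale {A S R : Type u} [CommRing A] [CommRing S] [CommRing R] [Algebra A S]
    [Algebra A R] [Algebra.Etale A R] :
    (Algebra.TensorProduct.includeRight : S →ₐ[A] R ⊗[A] S).toRingHom.Etale := by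
  have h1 : (algebraMap S (S ⊗[A] R)).Etale := RingHom.etale_algebraMap.mpr inferInstance
  have h2 : (Algebra.TensorProduct.includeRight : S →ₐ[A] R ⊗[A] S).toRingHom =
      (Algebra.TensorProduct.comm A S R).toRingEquiv.toRingHom.comp (algebraMap S (S ⊗[A] R)) := by
    ext x
    simp [Algebra.TensorProduct.algebraMap_apply]
  rw [h2]
  exact RingHom.Etale.respectsIso.1 _ _ h1

theorem finite_of_algEquiv {R T T' : Type u} [CommRing R] [CommRing T] [CommRing T'] [Algebra R T]
    [Algebra R T'] (Θ : T ≃ₐ[R] T') (x : T) [Module.Finite R (Localization.Away (Θ x))]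
    (C : Type u) [CommRing C] [Algebra T C] [Algebra R C] [IsScalarTower R T C]
    [IsLocalization.Away x C] : Module.Finite R C := by
  have hu : IsUnit (algebraMap T C x) := IsLocalization.Away.algebraMap_isUnit _
  let g : Localization.Away (Θ x) →ₐ[R] C :=
    IsLocalization.liftAlgHom (M := Submonoid.powers (Θ x)) (S := Localization.Away (Θ x))
      (f := (IsScalarTower.toAlgHom R T C).comp (Θ.symm : T' →ₐ[R] T)) (by
        rintro ⟨_, n, rfl⟩
        simp only [AlgHom.coe_comp, Function.comp_apply, map_pow]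
        refine IsUnit.pow n ?_
        simpa using hu)
  have hg : ∀ y, g (algebraMap _ _ y) = algebraMap T C (Θ.symm y) := fun y =>
    IsLocalization.lift_eq _ y
  have hsurj : Function.Surjective g := by
    intro y
    obtain ⟨a, ⟨_, n, rfl⟩, rfl⟩ := IsLocalization.exists_mk'_eq (Submonoid.powers x) y
    refine ⟨IsLocalization.mk' _ (Θ a) (⟨Θ x ^ n, n, rfl⟩ : Submonoid.powers (Θ x)), ?_⟩
    rw [IsLocalization.eq_mk'_iff_mul_eq]
    have h1 : algebraMap T C (x ^ n) = g (algebraMap _ _ (Θ x ^ n)) := by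
      rw [hg, map_pow, map_pow, map_pow, AlgEquiv.symm_apply_apply]
    change _ * algebraMap T C (x ^ n) = _
    rw [h1, ← map_mul]
    have h2 : IsLocalization.mk' (Localization.Away (Θ x)) (Θ a)
        (⟨Θ x ^ n, n, rfl⟩ : Submonoid.powers (Θ x)) * algebraMap _ _ (Θ x ^ n) =
        algebraMap _ _ (Θ a) :=
      IsLocalization.mk'_spec (Localization.Away (Θ x)) (Θ a)
        (⟨Θ x ^ n, n, rfl⟩ : Submonoid.powers (Θ x))
    rw [h2, hg, AlgEquiv.symm_apply_apply]
  exact Module.Finite.of_surjective g.toLinearMap hsurj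

section

variable (t p : σ → B) {R : Type u} [CommRing R] [Algebra k R]
  [Algebra (MvPolynomial (Option σ) k) R] [IsScalarTower k (MvPolynomial (Option σ) k) R]
  [Algebra (MvPolynomial (Option σ) k) B[X]] [IsScalarTower k (MvPolynomial (Option σ) k) B[X]]

/-- `B[λ] → (R ⊗ B)/(p + λ t - c)` is étale. -/
theorem exists_ev_etale [Algebra.Etale (MvPolynomial (Option σ) k) R]
    (halg : ∀ z, algebraMap (MvPolynomial (Option σ) k) B[X] z = alpha k t p z) :
    ∃ ev : B[X] →+* (R ⊗[k] B) ⧸ eqI t p (lamR (k := k) σ R) (cR (k := k) R), ev.Etale ∧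
    (∀ b, ev (C b) = Ideal.Quotient.mk _ (1 ⊗ₜ b)) ∧
    ev X = Ideal.Quotient.mk _ (lamR (k := k) σ R ⊗ₜ 1) := by
  let Θ := AlgEquiv.ofBijective _ (theta1_bijective (R := R) t p halg)
  have hΘ : ∀ (r : R) (b : B), Θ (Ideal.Quotient.mk _ (r ⊗ₜ b)) = r ⊗ₜ C b :=
    fun r b => theta0_tmul (k := k) (σ := σ) R r b
  refine ⟨Θ.symm.toRingEquiv.toRingHom.comp (Algebra.TensorProduct.includeRight :
    B[X] →ₐ[MvPolynomial (Option σ) k] R ⊗[MvPolynomial (Option σ) k] B[X]).toRingHom,
    RingHom.Etale.respectsIso.1 _ _ includeRight_etale, fun b => ?_, ?_⟩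
  · change Θ.symm (1 ⊗ₜ C b) = _
    rw [← hΘ, AlgEquiv.symm_apply_apply]
  · change Θ.symm (1 ⊗ₜ X) = _
    have h1 : (lamR (k := k) σ R ⊗ₜ[MvPolynomial (Option σ) k] (1 : B[X]) :
        R ⊗[MvPolynomial (Option σ) k] B[X]) = 1 ⊗ₜ X := by
      have h3 : lamR (k := k) σ R = (MvPolynomial.X none : MvPolynomial (Option σ) k) • (1 : R) := by
        rw [Algebra.smul_def, mul_one]
      rw [h3, TensorProduct.smul_tmul, Algebra.smul_def, halg]
      simp [alpha]
    rw [← h1, ← map_one (C : B →+* B[X]), ← hΘ, AlgEquiv.symm_apply_apply]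

end

theorem eq_zero_of_mul_eq_zero {A C : Type*} [CommRing A] [IsDomain A] [CommRing C] (f : A →+* C)
    (hf : f.Flat) (a : A) (ha : a ≠ 0) (x : C) (h : f a * x = 0) : x = 0 := by
  algebraize [f]
  have : Module.Flat A C := hf
  have h1 : IsSMulRegular A a := fun x y hxy => mul_left_cancel₀ ha hxy
  have h2 : IsSMulRegular (C ⊗[A] A) a := h1.lTensor C
  have h3 : IsSMulRegular C a :=
    (TensorProduct.rid A C).isSMulRegular_congr a |>.mp h2
  refine h3 ?_
  change a • x = a • 0
  rw [smul_zero, Algebra.smul_def]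
  exact h

theorem flat_of_etale {A C : Type*} [CommRing A] [CommRing C] (f : A →+* C) (hf : f.Etale) :
    f.Flat := by
  algebraize [f]
  have : Algebra.Etale A C := hf
  exact (inferInstance : Module.Flat A C)

/-- **The finite flat family** deforming `p` to a map with simple zeros. -/
theorem exists_family [IsAlgClosed k] [IsDomain B] [Fintype σ] [DecidableEq σ]
    (gt : MvPolynomial σ k →ₐ[k] B) (hgt : gt.toRingHom.Etale)
    (b : Module.Basis σ B Ω[B⁄k]) (hb : ∀ i, b i = D k B (gt (MvPolynomial.X i)))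
    (p : σ → B) (M : Ideal B) [M.IsMaximal]
    (hpM : ∀ i, p i ∈ M) (hM : ∀ Q : Ideal B, Q.IsPrime → (∀ i, p i ∈ Q) → Q = M) :
    ∃ (R : Type u) (_ : CommRing R) (_ : IsDomain R) (_ : Algebra k R) (_ : Algebra.FiniteType k R)
      (lam : R) (c : σ → R) (s₀ s₁ : R →ₐ[k] k) (e : R ⊗[k] B),
      s₀ lam = 0 ∧ (∀ i, s₀ (c i) = 0) ∧ evS s₀ e ∉ M ∧
      Module.Finite R (Localization.Away e ⧸
        (eqI (fun i => gt (MvPolynomial.X i)) p lam c).map
          (algebraMap (R ⊗[k] B) (Localization.Away e))) ∧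
      Module.Flat R (Localization.Away e ⧸
        (eqI (fun i => gt (MvPolynomial.X i)) p lam c).map
          (algebraMap (R ⊗[k] B) (Localization.Away e))) ∧
      ∀ Q : Ideal B, Q.IsPrime → evS s₁ e ∉ Q →
        (∀ i, p i + algebraMap k B (s₁ lam) * gt (MvPolynomial.X i) -
          algebraMap k B (s₁ (c i)) ∈ Q) →
        (FamJac.jac b (fun i => p i + algebraMap k B (s₁ lam) * gt (MvPolynomial.X i) -
          algebraMap k B (s₁ (c i)))).det ∉ Q := by
  set t : σ → B := fun i => gt (MvPolynomial.X i) with ht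
  have hftB : Algebra.FiniteType k B := by
    algebraize [gt.toRingHom]
    have : Algebra.Etale (MvPolynomial σ k) B := hgt
    have : IsScalarTower k (MvPolynomial σ k) B :=
      IsScalarTower.of_algebraMap_eq fun r => (gt.commutes r).symm
    exact Algebra.FiniteType.trans (S := MvPolynomial σ k) inferInstance inferInstance
  let _ : Algebra (MvPolynomial (Option σ) k) B[X] := (alpha k t p).toRingHom.toAlgebra
  have : IsScalarTower k (MvPolynomial (Option σ) k) B[X] :=
    IsScalarTower.of_algebraMap_eq fun r => ((alpha k t p).commutes r).symm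
  have halg : ∀ z, algebraMap (MvPolynomial (Option σ) k) B[X] z = alpha k t p z := fun z => rfl
  have hqf : Algebra.QuasiFiniteAt (MvPolynomial (Option σ) k) (q0 M) :=
    quasiFiniteAt t p M hpM hM halg
  have hftX : Algebra.FiniteType k B[X] := .trans (S := B) inferInstance inferInstance
  have hftX' : Algebra.FiniteType (MvPolynomial (Option σ) k) B[X] :=
    .of_restrictScalars_finiteType k _ _
  have hpmax : ((q0 M).under (MvPolynomial (Option σ) k)).IsMaximal :=
    UnramA.SmoothDim.isMaximal_under _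
  have hover : (q0 M).LiesOver ((q0 M).under (MvPolynomial (Option σ) k)) := ⟨rfl⟩
  obtain ⟨R, _, hRdom, _, hRet, P, hP, e, P', hP', hP'P, hP'q, he, hfin⟩ :=
    exists_etale_domain (A := MvPolynomial (Option σ) k) (S := B[X])
      ((q0 M).under (MvPolynomial (Option σ) k)) (q0 M) (by
      intro R' _ _ _ P _
      have : IsRegularRing R' :=
        Ega4A.RegEtale.isRegularRing_of_etale (MvPolynomial (Option σ) k) R'
      exact UnramB.SmoothCrit.exists_away_isDomain P (CalgA.RegBasic.isDomain _))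
  let _ : Algebra k R :=
    ((algebraMap (MvPolynomial (Option σ) k) R).comp (algebraMap k _)).toAlgebra
  have : IsScalarTower k (MvPolynomial (Option σ) k) R := IsScalarTower.of_algebraMap_eq fun _ => rfl
  have hftR : Algebra.FiniteType k R :=
    Algebra.FiniteType.trans (S := MvPolynomial (Option σ) k) inferInstance inferInstance
  -- the point `s₀`
  obtain ⟨s₀, hs₀⟩ := exists_algHom_of_isMaximal (k := k) P
  have hPA : ∀ a : MvPolynomial (Option σ) k, algebraMap _ B[X] a ∈ q0 M → s₀ (algebraMap _ R a) = 0 := by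
    intro a ha
    rw [← RingHom.mem_ker, hs₀, ← hP'P]
    change algebraMap _ R a ⊗ₜ[MvPolynomial (Option σ) k] (1 : B[X]) ∈ P'
    rw [← hP'q] at ha
    have h1 : algebraMap (MvPolynomial (Option σ) k) R a ⊗ₜ[MvPolynomial (Option σ) k] (1 : B[X]) =
        1 ⊗ₜ algebraMap _ _ a := by
      rw [Algebra.algebraMap_eq_smul_one, TensorProduct.smul_tmul, ← Algebra.algebraMap_eq_smul_one]
    rw [h1]
    exact ha
  have hs₀lam : s₀ (lamR (k := k) σ R) = 0 :=
    hPA _ (by rw [halg]; simpa [alpha] using X_mem_q0 M)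
  have hs₀c : ∀ i, s₀ (cR (k := k) R i) = 0 := fun i => hPA _ (by
    rw [halg]
    simp only [alpha, MvPolynomial.aeval_X, Option.elim]
    exact (q0 M).add_mem ((C_mem_q0 M _).2 (hpM i)) ((q0 M).mul_mem_right _ (X_mem_q0 M)))
  -- the lift of `e`
  let Θ := AlgEquiv.ofBijective _ (theta1_bijective (R := R) t p halg)
  obtain ⟨e', he'⟩ := Ideal.Quotient.mk_surjective (Θ.symm e)
  have he'' : Θ (Ideal.Quotient.mk _ e') = e := by rw [he', AlgEquiv.apply_symm_apply]
  have hθ0 : theta0 (k := k) (σ := σ) R e' = e := he''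
  have hevM : evS s₀ e' ∉ M := by
    intro hmem
    have key : ∀ x : R ⊗[k] B, theta0 (k := k) (σ := σ) R x - 1 ⊗ₜ C (evS s₀ x) ∈ P' := by
      intro x
      induction x using TensorProduct.induction_on with
      | zero => simp
      | add x y hx hy =>
        have := P'.add_mem hx hy
        rw [map_add, map_add, map_add, TensorProduct.tmul_add]
        convert this using 1
        ring
      | tmul r b =>
        rw [theta0_tmul, evS_tmul]
        have h1 : ((1 : R) ⊗ₜ[MvPolynomial (Option σ) k] C (algebraMap k B (s₀ r) * b) :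
            R ⊗[MvPolynomial (Option σ) k] B[X]) = algebraMap k R (s₀ r) ⊗ₜ C b := by
          have h2 : C (algebraMap k B (s₀ r) * b) =
              (algebraMap k (MvPolynomial (Option σ) k) (s₀ r)) • (C b : B[X]) := by
            rw [Algebra.smul_def, ← IsScalarTower.algebraMap_apply, map_mul]
            rfl
          rw [h2, ← TensorProduct.smul_tmul, ← Algebra.algebraMap_eq_smul_one,
            ← IsScalarTower.algebraMap_apply]
        rw [h1, ← TensorProduct.sub_tmul]
        have h2 : ((r - algebraMap k R (s₀ r)) ⊗ₜ[MvPolynomial (Option σ) k] C b :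
            R ⊗[MvPolynomial (Option σ) k] B[X]) =
            ((r - algebraMap k R (s₀ r)) ⊗ₜ 1) * (1 ⊗ₜ C b) := by
          rw [Algebra.TensorProduct.tmul_mul_tmul, mul_one, one_mul]
        rw [h2]
        refine P'.mul_mem_right _ ?_
        have h3 : r - algebraMap k R (s₀ r) ∈ P := by
          rw [← hs₀, RingHom.mem_ker, map_sub, AlgHom.commutes]
          simp
        rw [← hP'P] at h3
        exact h3
    have h1 := key e'
    rw [hθ0] at h1
    have h2 : (1 ⊗ₜ C (evS s₀ e') : R ⊗[MvPolynomial (Option σ) k] B[X]) ∈ P' := by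
      have h3 : C (evS s₀ e') ∈ q0 M := (C_mem_q0 M _).2 hmem
      rw [← hP'q] at h3
      exact h3
    exact he (by simpa using P'.add_mem h1 h2)
  -- the algebra `C`
  let I : Ideal (R ⊗[k] B) := eqI t p (lamR (k := k) σ R) (cR (k := k) R)
  let L := Localization.Away e'
  let C' := L ⧸ I.map (algebraMap (R ⊗[k] B) L)
  have hloc : IsLocalization.Away (Ideal.Quotient.mk I e') C' := by
    have h1 : IsLocalization (Algebra.algebraMapSubmonoid ((R ⊗[k] B) ⧸ I) (Submonoid.powers e')) C' :=
      inferInstance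
    have h2 : Algebra.algebraMapSubmonoid ((R ⊗[k] B) ⧸ I) (Submonoid.powers e') =
        Submonoid.powers (Ideal.Quotient.mk I e') := by
      rw [Algebra.algebraMapSubmonoid_powers]
      rfl
    rwa [h2] at h1
  have hfin' : Module.Finite R (Localization.Away (Θ (Ideal.Quotient.mk I e'))) := by
    rw [he'']
    exact hfin
  have htow : IsScalarTower R ((R ⊗[k] B) ⧸ I) C' :=
    IsScalarTower.of_algebraMap_eq (R := R) (S := (R ⊗[k] B) ⧸ I) (A := C') fun r => rfl
  have hfinC : Module.Finite R C' := finite_of_algEquiv Θ (Ideal.Quotient.mk I e') C'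
  obtain ⟨ev, hev, hevC, hevX⟩ := exists_ev_etale (R := R) t p halg
  have hL : (algebraMap ((R ⊗[k] B) ⧸ I) C').Etale :=
    RingHom.etale_algebraMap.mpr (Algebra.Etale.of_isLocalizationAway (Ideal.Quotient.mk I e'))
  let evC : B[X] →+* C' := (algebraMap ((R ⊗[k] B) ⧸ I) C').comp ev
  have hevCet : evC.Etale := RingHom.Etale.stableUnderComposition _ _ hev hL
  have hflat : Module.Flat R C' :=
    FamFlat.flat_of_finite (algebraMap (MvPolynomial (Option σ) k) R)
      (RingHom.etale_algebraMap.mpr hRet) (evC.comp (beta k t).toRingHom)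
      (RingHom.Etale.stableUnderComposition _ _ (beta_etale gt hgt) hevCet)
  -- the characteristic polynomial
  let J := FamJac.jac b p
  let G : B[X] := (-J).charpoly
  have hG0 : G ≠ 0 := (Matrix.charpoly_monic _).ne_zero
  obtain ⟨r, hr0, hr⟩ := exists_dvd_algebraMap (R := R) (evC G)
    (fun x => eq_zero_of_mul_eq_zero evC (flat_of_etale evC hevCet) G hG0 x)
  -- the point `s₁`
  obtain ⟨m, hm, hrm⟩ : ∃ m : Ideal R, m.IsMaximal ∧ r ∉ m := by
    have hJ : IsJacobsonRing R := isJacobsonRing_of_finiteType (A := k)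
    have h1 : (⊥ : Ideal R).jacobson = ⊥ := hJ.out (Ideal.isRadical_bot)
    by_contra hcon
    push Not at hcon
    have h2 : r ∈ (⊥ : Ideal R).jacobson := by
      rw [Ideal.jacobson, Submodule.mem_sInf]
      rintro m ⟨-, hm⟩
      exact hcon m hm
    rw [h1] at h2
    exact hr0 h2
  obtain ⟨s₁, hs₁⟩ := exists_algHom_of_isMaximal (k := k) m
  have hs₁r : s₁ r ≠ 0 := by
    rw [← hs₁] at hrm
    exact hrm
  refine ⟨R, inferInstance, hRdom, inferInstance, hftR, lamR (k := k) σ R, cR (k := k) R, s₀, s₁, e',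
    hs₀lam, hs₀c, hevM, hfinC, hflat, ?_⟩
  intro Q hQ heQ hvQ hdet
  let F := Q.ResidueField
  let φ₀ : R ⊗[k] B →+* F := (algebraMap B F).comp (evS s₁).toRingHom
  have hφ₀ : ∀ x ∈ I, φ₀ x = 0 := by
    intro x hx
    have h1 : I ≤ RingHom.ker φ₀ := by
      change eqI t p (lamR (k := k) σ R) (cR (k := k) R) ≤ _
      rw [eqI, Ideal.span_le]
      rintro _ ⟨i, rfl⟩
      change algebraMap B F (evS s₁ (eqn t p _ _ i)) = 0
      rw [Ideal.algebraMap_residueField_eq_zero]
      have h2 : evS s₁ (eqn t p (lamR (k := k) σ R) (cR (k := k) R) i) =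
          p i + algebraMap k B (s₁ (lamR (k := k) σ R)) * gt (MvPolynomial.X i) -
            algebraMap k B (s₁ (cR (k := k) R i)) := by
        simp [eqn, ht]
      rw [h2]
      exact hvQ i
    exact h1 hx
  let φ : (R ⊗[k] B) ⧸ I →+* F := Ideal.Quotient.lift I φ₀ hφ₀
  have hφe : IsUnit (φ (Ideal.Quotient.mk I e')) := by
    rw [isUnit_iff_ne_zero]
    change algebraMap B F (evS s₁ e') ≠ 0
    rwa [Ne, Ideal.algebraMap_residueField_eq_zero]
  let φC : C' →+* F := IsLocalization.Away.lift (Ideal.Quotient.mk I e') hφe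
  have hφC : ∀ x, φC (algebraMap _ _ x) = φ x := fun x =>
    IsLocalization.Away.lift_eq (Ideal.Quotient.mk I e') hφe x
  have hcomp : φC.comp evC = (algebraMap B F).comp
      (evalRingHom (algebraMap k B (s₁ (lamR (k := k) σ R)))) := by
    apply Polynomial.ringHom_ext
    · intro b
      change φC (algebraMap _ _ (ev (C b))) = algebraMap B F (eval _ (C b))
      rw [eval_C, hφC, hevC]
      change algebraMap B F (evS s₁ (1 ⊗ₜ b)) = _
      simp
    · change φC (algebraMap _ _ (ev X)) = algebraMap B F (eval _ X)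
      rw [eval_X, hφC, hevX]
      change algebraMap B F (evS s₁ (_ ⊗ₜ 1)) = _
      simp
  have hG : φC (evC G) = 0 := by
    have h1 : φC (evC G) = algebraMap B F (eval _ G) := RingHom.congr_fun hcomp G
    rw [h1, Matrix.eval_charpoly, Ideal.algebraMap_residueField_eq_zero]
    rw [FamJac.jac_add b t hb p] at hdet
    convert hdet using 2
    rw [sub_neg_eq_add, add_comm]
  obtain ⟨y, hy⟩ := hr
  have h1 : φC (algebraMap R C' r) = algebraMap B F (algebraMap k B (s₁ r)) := by
    change φC (algebraMap _ C' (Ideal.Quotient.mk I (r ⊗ₜ 1))) = _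
    rw [hφC]
    change algebraMap B F (evS s₁ (r ⊗ₜ 1)) = _
    simp
  rw [hy, map_mul, hG, zero_mul] at h1
  have h2 : algebraMap B F (algebraMap k B (s₁ r)) ≠ 0 := by
    rw [Ne, Ideal.algebraMap_residueField_eq_zero]
    intro h3
    exact hQ.ne_top (Q.eq_top_of_isUnit_mem h3 ((isUnit_iff_ne_zero.mpr hs₁r).map _))
  exact h2 h1.symm

end Groth.Agent.Sga4h.H13.FamRing
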