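import Groth.Agent.Sga4h.H13.FamDat
import Groth.Agent.Sga4h.H13.FamRing4

/-!
# The datum on `X × Spec R` defined by elements of `R ⊗ B`, `Spec B` open in `X`
-/

set_option autoImplicit false
universe u
open CategoryTheory CategoryTheory.Limits AlgebraicGeometry Opposite TensorProduct

namespace Groth.Agent.Sga4h.H13

noncomputable section

variable {k : Type u} [Field k] {d : ℕ}

theorem ofOpen_fst {Y : Scheme.{u}} {y : Y ⟶ Spec (CommRingCat.of k)} {T : Scheme.{u}} (j : T ⟶ Y)
    [IsOpenImmersion j] (φ : T ⟶ Aff k d) (h : φ ≫ Aff.str k d = j ≫ y)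
    (hc : IsClosed (j '' zeros φ)) :
    ∃ (g : zeroScheme (Dat.ofOpen j φ h hc).Φ ⟶ zeroScheme φ) (_ : IsIso g),
      pullback.fst (Dat.ofOpen j φ h hc).Φ (origin k d) ≫ (Dat.ofOpen j φ h hc).W.ι =
        g ≫ pullback.fst φ (origin k d) ≫ j := by
  refine ⟨zeroMap j.isoOpensRange.inv φ, isIso_zeroMap j.isoOpensRange.inv φ (fun z _ =>
    ⟨j.isoOpensRange.hom z, by rw [← Scheme.Hom.comp_apply, Iso.hom_inv_id]; rfl⟩), ?_⟩
  have h1 : pullback.fst (j.isoOpensRange.inv ≫ φ) (origin k d) ≫ j.opensRange.ι =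
      zeroMap j.isoOpensRange.inv φ ≫ pullback.fst φ (origin k d) ≫ j := by
    rw [zeroMap_fst_assoc, Scheme.Hom.isoOpensRange_inv_comp]
  exact h1

/-- The structure morphism of `Spec R`. -/
abbrev strR (k : Type u) [Field k] (R : Type u) [CommRing R] [Algebra k R] :
    Spec (CommRingCat.of R) ⟶ Spec (CommRingCat.of k) :=
  Spec.map (CommRingCat.ofHom (algebraMap k R))

section

variable {X : Scheme.{u}} (p : X ⟶ Spec (CommRingCat.of k))
  {B : Type u} [CommRing B] [Algebra k B] (j₀ : Spec (CommRingCat.of B) ⟶ X)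
  (hj₀ : j₀ ≫ p = strR k B) (R : Type u) [CommRing R] [Algebra k R]

/-- `Spec (R ⊗ B) ⟶ Spec B`. -/
abbrev prB (k : Type u) [Field k] (B : Type u) [CommRing B] [Algebra k B] (R : Type u) [CommRing R]
    [Algebra k R] : Spec (CommRingCat.of (R ⊗[k] B)) ⟶ Spec (CommRingCat.of B) :=
  Spec.map (CommRingCat.ofHom (Algebra.TensorProduct.includeRight : B →ₐ[k] R ⊗[k] B).toRingHom)

/-- `Spec (R ⊗ B) ⟶ Spec R`. -/
abbrev prR (k : Type u) [Field k] (B : Type u) [CommRing B] [Algebra k B] (R : Type u) [CommRing R]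
    [Algebra k R] : Spec (CommRingCat.of (R ⊗[k] B)) ⟶ Spec (CommRingCat.of R) :=
  Spec.map (CommRingCat.ofHom (Algebra.TensorProduct.includeLeftRingHom : R →+* R ⊗[k] B))

theorem isPullback_pr : IsPullback (prR k B R) (prB k B R) (strR k R) (strR k B) :=
  isPullback_SpecMap_of_isPushout _ _ _ _ (CommRingCat.isPushout_tensorProduct k R B)

/-- The open immersion `Spec (R ⊗ B) ⟶ X × Spec R`. -/
def jE : Spec (CommRingCat.of (R ⊗[k] B)) ⟶ pullback p (strR k R) :=
  pullback.lift (prB k B R ≫ j₀) (prR k B R) (by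
    rw [Category.assoc, hj₀]
    exact (isPullback_pr R).w.symm)

@[reassoc (attr := simp)]
theorem jE_fst : jE p j₀ hj₀ R ≫ pullback.fst p (strR k R) = prB k B R ≫ j₀ :=
  pullback.lift_fst _ _ _

@[reassoc (attr := simp)]
theorem jE_snd : jE p j₀ hj₀ R ≫ pullback.snd p (strR k R) = prR k B R :=
  pullback.lift_snd _ _ _

theorem isPullback_jE : IsPullback (jE p j₀ hj₀ R) (prB k B R) (pullback.fst p (strR k R)) j₀ := by
  have h1 : IsPullback (jE p j₀ hj₀ R ≫ pullback.snd p (strR k R)) (prB k B R) (strR k R)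
      (j₀ ≫ p) := by
    rw [jE_snd, hj₀]
    exact isPullback_pr R
  exact IsPullback.of_right h1 (jE_fst p j₀ hj₀ R) (IsPullback.of_hasPullback _ _).flip

instance [IsOpenImmersion j₀] : IsOpenImmersion (jE p j₀ hj₀ R) :=
  MorphismProperty.of_isPullback (isPullback_jE p j₀ hj₀ R).flip ‹IsOpenImmersion j₀›

variable {R} (e : R ⊗[k] B)

/-- The open immersion `Spec (R ⊗ B)_e ⟶ X × Spec R`. -/
def jL : Spec (CommRingCat.of (Localization.Away e)) ⟶ pullback p (strR k R) :=
  Spec.map (CommRingCat.ofHom (algebraMap (R ⊗[k] B) (Localization.Away e))) ≫ jE p j₀ hj₀ R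

instance [IsOpenImmersion j₀] : IsOpenImmersion (jL p j₀ hj₀ e) := by
  unfold jL
  infer_instance

variable (w : ULift.{u} (Fin d) → R ⊗[k] B)

/-- The map `Spec (R ⊗ B)_e ⟶ 𝔸^d`. -/
def phiL : Spec (CommRingCat.of (Localization.Away e)) ⟶ Aff k d :=
  specHom k (fun i => algebraMap (R ⊗[k] B) (Localization.Away e) (w i))

theorem phiL_eq : phiL e w =
    Spec.map (CommRingCat.ofHom (algebraMap (R ⊗[k] B) (Localization.Away e))) ≫ specHom k w :=
  (comp_specHom (IsScalarTower.toAlgHom k (R ⊗[k] B) (Localization.Away e)) w).symm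

theorem phiL_over : phiL e w ≫ Aff.str k d = jL p j₀ hj₀ e ≫ pullback.fst p (strR k R) ≫ p := by
  have h1 : prB k B R ≫ strR k B = strR k (R ⊗[k] B) := by
    rw [← Spec.map_comp, ← CommRingCat.ofHom_comp]
    congr 2
    exact (Algebra.TensorProduct.includeRight : B →ₐ[k] R ⊗[k] B).comp_algebraMap
  rw [phiL_eq, Category.assoc, specHom_str, jL, Category.assoc, jE_fst_assoc, hj₀, h1]

/-- The ideal of the zero scheme of `phiL`. -/
abbrev idL : Ideal (Localization.Away e) :=
  Ideal.span (Set.range (fun i => algebraMap (R ⊗[k] B) (Localization.Away e) (w i)))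

theorem idL_eq : idL e w =
    (Ideal.span (Set.range w)).map (algebraMap (R ⊗[k] B) (Localization.Away e)) := by
  rw [Ideal.map_span, ← Set.range_comp]
  rfl

/-- The closed subscheme `w = 0` of `Spec (R ⊗ B)_e`. -/
abbrev zL : Spec (CommRingCat.of (Localization.Away e ⧸ idL e w)) ⟶
    Spec (CommRingCat.of (Localization.Away e)) :=
  Spec.map (CommRingCat.ofHom (Ideal.Quotient.mk (idL e w)))

theorem zL_snd : zL e w ≫ jL p j₀ hj₀ e ≫ pullback.snd p (strR k R) =
    Spec.map (CommRingCat.ofHom (algebraMap R (Localization.Away e ⧸ idL e w))) := by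
  rw [jL, Category.assoc, jE_snd, ← Spec.map_comp, ← Spec.map_comp, ← CommRingCat.ofHom_comp,
    ← CommRingCat.ofHom_comp]

variable [Module.Finite R (Localization.Away e ⧸ idL e w)]

theorem finite_zL : IsFinite (zL e w ≫ jL p j₀ hj₀ e ≫ pullback.snd p (strR k R)) := by
  rw [zL_snd, IsFinite.SpecMap_iff]
  exact RingHom.finite_algebraMap.mpr ‹_›

theorem isClosed_phiL [IsSeparated p] : IsClosed (jL p j₀ hj₀ e '' zeros (phiL e w)) := by
  have h1 : zeros (phiL e w) = Set.range (zL e w) :=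
    (range_of_isPullback (isPullback_specHom (k := k)
      (fun i => algebraMap (R ⊗[k] B) (Localization.Away e) (w i)))).symm
  have h2 : IsFinite ((zL e w ≫ jL p j₀ hj₀ e) ≫ pullback.snd p (strR k R)) := by
    rw [Category.assoc]
    exact finite_zL p j₀ hj₀ e w
  have h3 : IsFinite (zL e w ≫ jL p j₀ hj₀ e) := IsFinite.of_comp _ (pullback.snd p (strR k R))
  have h4 : IsClosed (Set.range (zL e w ≫ jL p j₀ hj₀ e)) :=
    (zL e w ≫ jL p j₀ hj₀ e).isClosedMap.isClosed_range
  rw [h1, ← Set.range_comp]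
  exact h4

variable [IsSeparated p] [IsOpenImmersion j₀]

/-- The datum on `X × Spec R`. -/
def datL : Dat (pullback.fst p (strR k R) ≫ p) d :=
  Dat.ofOpen (jL p j₀ hj₀ e) (phiL e w) (phiL_over p j₀ hj₀ e w) (isClosed_phiL p j₀ hj₀ e w)

theorem datL_fst : ∃ (g : zeroScheme (datL p j₀ hj₀ e w).Φ ⟶
      Spec (CommRingCat.of (Localization.Away e ⧸ idL e w))) (_ : IsIso g),
    (pullback.fst (datL p j₀ hj₀ e w).Φ (origin k d) ≫ (datL p j₀ hj₀ e w).W.ι) ≫
      pullback.snd p (strR k R) =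
    g ≫ Spec.map (CommRingCat.ofHom (algebraMap R (Localization.Away e ⧸ idL e w))) := by
  obtain ⟨g, hg, h1⟩ := ofOpen_fst (jL p j₀ hj₀ e) (phiL e w) (phiL_over p j₀ hj₀ e w)
    (isClosed_phiL p j₀ hj₀ e w)
  have h : IsPullback (zL e w) _ (phiL e w) (origin k d) :=
    isPullback_specHom (k := k) (fun i => algebraMap (R ⊗[k] B) (Localization.Away e) (w i))
  have h2 : h.isoPullback.inv ≫ zL e w = pullback.fst (phiL e w) (origin k d) :=
    h.isoPullback_inv_fst
  have key : (pullback.fst (Dat.ofOpen (jL p j₀ hj₀ e) (phiL e w) (phiL_over p j₀ hj₀ e w)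
      (isClosed_phiL p j₀ hj₀ e w)).Φ (origin k d) ≫ (Dat.ofOpen (jL p j₀ hj₀ e) (phiL e w)
        (phiL_over p j₀ hj₀ e w) (isClosed_phiL p j₀ hj₀ e w)).W.ι) ≫ pullback.snd p (strR k R) =
      (g ≫ h.isoPullback.inv) ≫
        Spec.map (CommRingCat.ofHom (algebraMap R (Localization.Away e ⧸ idL e w))) := by
    rw [h1, ← zL_snd p j₀ hj₀ e w, Category.assoc, Category.assoc, Category.assoc, reassoc_of% h2]
  exact ⟨g ≫ h.isoPullback.inv, IsIso.comp_isIso' hg (Iso.isIso_inv _), key⟩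

instance : IsFinite ((pullback.fst (datL p j₀ hj₀ e w).Φ (origin k d) ≫
    (datL p j₀ hj₀ e w).W.ι) ≫ pullback.snd p (strR k R)) := by
  obtain ⟨g, hg, h⟩ := datL_fst p j₀ hj₀ e w
  rw [h]
  have : IsFinite (Spec.map (CommRingCat.ofHom (algebraMap R (Localization.Away e ⧸ idL e w)))) := by
    rw [IsFinite.SpecMap_iff]
    exact RingHom.finite_algebraMap.mpr ‹_›
  infer_instance

instance [Module.Flat R (Localization.Away e ⧸ idL e w)] :
    Flat ((pullback.fst (datL p j₀ hj₀ e w).Φ (origin k d) ≫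
    (datL p j₀ hj₀ e w).W.ι) ≫ pullback.snd p (strR k R)) := by
  obtain ⟨g, hg, h⟩ := datL_fst p j₀ hj₀ e w
  rw [h]
  have : Flat (Spec.map (CommRingCat.ofHom (algebraMap R (Localization.Away e ⧸ idL e w)))) := by
    rw [Flat.SpecMap_iff]
    exact RingHom.flat_algebraMap_iff.mpr ‹_›
  infer_instance

instance [IsNoetherianRing R] :
    LocallyOfFinitePresentation ((pullback.fst (datL p j₀ hj₀ e w).Φ (origin k d) ≫
    (datL p j₀ hj₀ e w).W.ι) ≫ pullback.snd p (strR k R)) := by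
  obtain ⟨g, hg, h⟩ := datL_fst p j₀ hj₀ e w
  rw [h]
  have : LocallyOfFinitePresentation
      (Spec.map (CommRingCat.ofHom (algebraMap R (Localization.Away e ⧸ idL e w)))) := by
    rw [LocallyOfFinitePresentation.SpecMap_iff]
    have h1 : Algebra.FinitePresentation R (Localization.Away e ⧸ idL e w) :=
      Algebra.FinitePresentation.of_finiteType.mp inferInstance
    exact RingHom.finitePresentation_algebraMap.mpr h1
  infer_instance

end

end

end Groth.Agent.Sga4h.H13
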