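import Mathlib.RingTheory.Kaehler.JacobiZariski
import Mathlib.RingTheory.Kaehler.Polynomial
import Mathlib.RingTheory.Etale.Kaehler
import Mathlib.RingTheory.RingHom.Etale
import Mathlib.RingTheory.Etale.Basic
import Mathlib.LinearAlgebra.Matrix.Charpoly.Coeff
import Mathlib.LinearAlgebra.Matrix.Basis
import Mathlib.LinearAlgebra.Matrix.NonsingularInverse

/-!
# Jacobian criterion with respect to étale coordinates

`B` étale over `k[T_i]`, `t_i` the images of the `T_i`, `b` the basis `d t_i` of `Ω_{B/k}`.  If `v_i ∈ B` and the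
Jacobian `det (∂ v_i / ∂ t_j)` is invertible in the localization `B'` then `k[T_i] → B'`, `T_i ↦ v_i` is étale.
-/

set_option autoImplicit false
universe u

open TensorProduct KaehlerDifferential

namespace Groth.Agent.Sga4h.H13.FamJac

/-- If `A → P → B` with `B` formally smooth over `A` and `B ⊗ Ω[P/A] → Ω[B/A]` bijective, then
`B` is formally étale over `P`. -/
theorem formallyEtale_of_mapBaseChange_bijective (A P B : Type*) [CommRing A] [CommRing P]
    [CommRing B] [Algebra A P] [Algebra P B] [Algebra A B] [IsScalarTower A P B]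
    [Algebra.FormallySmooth A B] (h : Function.Bijective (mapBaseChange A P B)) :
    Algebra.FormallyEtale P B := by
  refine (Algebra.formallyEtale_iff _ _).mpr ⟨?_, ?_⟩
  · refine subsingleton_of_forall_eq 0 fun x ↦ ?_
    obtain ⟨x, rfl⟩ := map_surjective A P B x
    obtain ⟨y, rfl⟩ := h.2 x
    exact (exact_mapBaseChange_map A P B).apply_apply_eq_zero y
  · refine subsingleton_of_forall_eq 0 fun x ↦ ?_
    have h1 : mapBaseChange A P B (Algebra.H1Cotangent.δ A P B x) = 0 :=
      (Algebra.H1Cotangent.exact_δ_mapBaseChange A P B).apply_apply_eq_zero x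
    have h2 : Algebra.H1Cotangent.δ A P B x = 0 := h.1 (by simpa using h1)
    obtain ⟨y, rfl⟩ := (Algebra.H1Cotangent.exact_map_δ A P B x).mp h2
    have : y = 0 := Subsingleton.elim _ _
    simp [this]

variable {k : Type u} [Field k] {B : Type u} [CommRing B] [Algebra k B] {σ : Type u} [Fintype σ]
  [DecidableEq σ]

section

variable (gt : MvPolynomial σ k →ₐ[k] B) (hgt : gt.toRingHom.Etale)

include hgt in
/-- The basis `d t_i` of the differentials of an étale `k[T]`-algebra. -/
theorem exists_basis : ∃ b : Module.Basis σ B Ω[B⁄k], ∀ i, b i = D k B (gt (MvPolynomial.X i)) := by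
  algebraize [gt.toRingHom]
  have : Algebra.Etale (MvPolynomial σ k) B := hgt
  have : IsScalarTower k (MvPolynomial σ k) B :=
    IsScalarTower.of_algebraMap_eq fun r => (gt.commutes r).symm
  let e := tensorKaehlerEquivOfFormallyEtale k (MvPolynomial σ k) B
  refine ⟨((mvPolynomialBasis k σ).baseChange B).map e, fun i => ?_⟩
  rw [Module.Basis.map_apply, Module.Basis.baseChange_apply, mvPolynomialBasis_apply]
  simp [e]
  rfl

end

/-- The Jacobian matrix of `v` with respect to the basis `b` of the differentials. -/
noncomputable def jac (b : Module.Basis σ B Ω[B⁄k]) (v : σ → B) : Matrix σ σ B :=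
  Matrix.of fun i j => b.repr (D k B (v i)) j

theorem jac_apply (b : Module.Basis σ B Ω[B⁄k]) (v : σ → B) (i j : σ) :
    jac b v i j = b.repr (D k B (v i)) j := rfl

/-- The Jacobian of `p + λ t - c`, `λ`, `c i` constants. -/
theorem jac_add (b : Module.Basis σ B Ω[B⁄k]) (t : σ → B) (hb : ∀ i, b i = D k B (t i)) (p : σ → B)
    (l : k) (c : σ → k) :
    jac b (fun i => p i + algebraMap k B l * t i - algebraMap k B (c i)) =
      jac b p + Matrix.scalar σ (algebraMap k B l) := by
  ext i j
  simp only [jac_apply, Matrix.add_apply, map_sub, map_add, Derivation.leibniz,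
    Derivation.map_algebraMap, smul_zero, sub_zero, ← hb, Matrix.scalar_apply, add_zero,
    Module.Basis.repr_self, map_smul, Finsupp.add_apply, Finsupp.smul_apply, Matrix.diagonal_apply,
    Finsupp.single_apply, smul_eq_mul, mul_ite, mul_one, mul_zero]

/-- **Jacobian criterion.** -/
theorem formallyEtale_of_isUnit_det (b : Module.Basis σ B Ω[B⁄k]) (v : σ → B)
    [Algebra.FormallySmooth k B]
    (B' : Type u) [CommRing B'] [Algebra B B'] [Algebra k B'] [IsScalarTower k B B']
    [Algebra.FormallyEtale B B'] [Algebra (MvPolynomial σ k) B']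
    [IsScalarTower k (MvPolynomial σ k) B']
    (hv : ∀ i, algebraMap (MvPolynomial σ k) B' (MvPolynomial.X i) = algebraMap B B' (v i))
    (h : IsUnit (algebraMap B B' (jac b v).det)) :
    Algebra.FormallyEtale (MvPolynomial σ k) B' := by
  have : Algebra.FormallySmooth k B' := Algebra.FormallySmooth.comp k B B'
  apply formallyEtale_of_mapBaseChange_bijective k (MvPolynomial σ k) B'
  let E := tensorKaehlerEquivOfFormallyEtale k B B'
  let b' : Module.Basis σ B' Ω[B'⁄k] := (b.baseChange B').map E
  let c : Module.Basis σ B' (B' ⊗[MvPolynomial σ k] Ω[MvPolynomial σ k⁄k]) :=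
    (mvPolynomialBasis k σ).baseChange B'
  have hmat : LinearMap.toMatrix c b' (mapBaseChange k (MvPolynomial σ k) B') =
      ((jac b v).map (algebraMap B B')).transpose := by
    ext i j
    rw [LinearMap.toMatrix_apply, Matrix.transpose_apply, Matrix.map_apply, jac_apply]
    have h1 : mapBaseChange k (MvPolynomial σ k) B' (c j) = D k B' (algebraMap B B' (v j)) := by
      simp only [c, Module.Basis.baseChange_apply, mvPolynomialBasis_apply, mapBaseChange_tmul,
        one_smul, KaehlerDifferential.map_D, hv]
    rw [h1]
    have h2 : E.symm (D k B' (algebraMap B B' (v j))) = 1 ⊗ₜ D k B (v j) :=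
      tensorKaehlerEquivOfFormallyEtale_symm_D_algebraMap k B B' (v j)
    simp only [b', Module.Basis.map_repr, LinearEquiv.trans_apply, h2]
    rw [Module.Basis.baseChange_repr_tmul, Algebra.smul_def, mul_one]
  have hu : IsUnit (LinearMap.toMatrix c b' (mapBaseChange k (MvPolynomial σ k) B')).det := by
    rw [hmat, Matrix.det_transpose, ← RingHom.mapMatrix_apply, ← RingHom.map_det]
    exact h
  exact (LinearEquiv.ofIsUnitDet hu).bijective

/-- **Jacobian criterion**, with the étale ring homomorphism. -/
theorem etale_of_isUnit_det (gt : MvPolynomial σ k →ₐ[k] B) (hgt : gt.toRingHom.Etale)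
    (b : Module.Basis σ B Ω[B⁄k]) (v : σ → B) (g : B) (hg : (jac b v).det ∣ g)
    (B' : Type u) [CommRing B'] [Algebra B B'] [Algebra k B'] [IsScalarTower k B B']
    [IsLocalization.Away g B'] :
    ((IsScalarTower.toAlgHom k B B').comp (MvPolynomial.aeval v)).toRingHom.Etale := by
  have hfpB : Algebra.FinitePresentation k B ∧ Algebra.FormallySmooth k B := by
    algebraize [gt.toRingHom]
    have : Algebra.Etale (MvPolynomial σ k) B := hgt
    have : IsScalarTower k (MvPolynomial σ k) B :=
      IsScalarTower.of_algebraMap_eq fun r => (gt.commutes r).symm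
    exact ⟨Algebra.FinitePresentation.trans k (MvPolynomial σ k) B,
      Algebra.FormallySmooth.comp k (MvPolynomial σ k) B⟩
  obtain ⟨hfp, hfs⟩ := hfpB
  algebraize [((IsScalarTower.toAlgHom k B B').comp (MvPolynomial.aeval v)).toRingHom]
  have : IsScalarTower k (MvPolynomial σ k) B' := IsScalarTower.of_algebraMap_eq fun r =>
    (((IsScalarTower.toAlgHom k B B').comp (MvPolynomial.aeval v)).commutes r).symm
  have : Algebra.FormallyEtale B B' := Algebra.FormallyEtale.of_isLocalization (Submonoid.powers g)
  have hu : IsUnit (algebraMap B B' (jac b v).det) := by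
    obtain ⟨c, rfl⟩ := hg
    have := IsLocalization.Away.algebraMap_isUnit (S := B') ((jac b v).det * c)
    rw [map_mul] at this
    exact isUnit_of_mul_isUnit_left this
  have h1 : Algebra.FormallyEtale (MvPolynomial σ k) B' :=
    formallyEtale_of_isUnit_det b v B' (fun i => by
      change (IsScalarTower.toAlgHom k B B') (MvPolynomial.aeval v (MvPolynomial.X i)) = _
      rw [MvPolynomial.aeval_X]
      rfl) hu
  have : Algebra.FinitePresentation B B' := IsLocalization.Away.finitePresentation g
  have : Algebra.FinitePresentation k B' := Algebra.FinitePresentation.trans k B B'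
  have : Algebra.FinitePresentation (MvPolynomial σ k) B' :=
    Algebra.FinitePresentation.of_restrict_scalars_finitePresentation k (MvPolynomial σ k) B'
  exact ({ } : Algebra.Etale (MvPolynomial σ k) B')

end Groth.Agent.Sga4h.H13.FamJac
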