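import Groth.Agent.Sga4h.H13.FamJac
import Mathlib.RingTheory.PolynomialAlgebra
import Mathlib.RingTheory.ZariskisMainTheorem
import Mathlib.RingTheory.Etale.QuasiFinite
import Mathlib.Algebra.MvPolynomial.Equiv

/-!
# The universal family `p + λ t = c`
-/

set_option autoImplicit false
universe u

open TensorProduct Polynomial

namespace Groth.Agent.Sga4h.H13.FamRing

variable {k : Type u} [Field k] {B : Type u} [CommRing B] [Algebra k B] {σ : Type u}

/-- The map `k[λ, c_i] → B[λ]`, `c_i ↦ t_i`. -/
noncomputable def beta (k : Type u) [Field k] [Algebra k B] (t : σ → B) :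
    MvPolynomial (Option σ) k →ₐ[k] B[X] :=
  MvPolynomial.aeval (fun o => o.elim X (fun i => C (t i)))

/-- The map `k[λ, c_i] → B[λ]`, `c_i ↦ p_i + λ t_i`. -/
noncomputable def alpha (k : Type u) [Field k] [Algebra k B] (t p : σ → B) :
    MvPolynomial (Option σ) k →ₐ[k] B[X] :=
  MvPolynomial.aeval (fun o => o.elim X (fun i => C (p i) + X * C (t i)))

section

attribute [local instance] Polynomial.algebra

theorem beta_etale (gt : MvPolynomial σ k →ₐ[k] B) (hgt : gt.toRingHom.Etale) :
    (beta k (fun i => gt (MvPolynomial.X i))).toRingHom.Etale := by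
  algebraize [gt.toRingHom]
  have : Algebra.Etale (MvPolynomial σ k) B := hgt
  have h1 : Algebra.Etale (MvPolynomial σ k)[X] B[X] :=
    Algebra.Etale.of_equiv (A := (MvPolynomial σ k)[X] ⊗[MvPolynomial σ k] B)
      (Algebra.IsPushout.equiv (MvPolynomial σ k) (MvPolynomial σ k)[X] B B[X])
  have h2 : (algebraMap (MvPolynomial σ k)[X] B[X]).Etale := RingHom.etale_algebraMap.mpr h1
  have h3 : (beta k (fun i => gt (MvPolynomial.X i))).toRingHom =
      (algebraMap (MvPolynomial σ k)[X] B[X]).comp
        (MvPolynomial.optionEquivLeft k σ).toRingEquiv.toRingHom := by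
    apply MvPolynomial.ringHom_ext
    · intro r
      change beta k _ (MvPolynomial.C r) = mapRingHom (algebraMap (MvPolynomial σ k) B)
        (MvPolynomial.optionEquivLeft k σ (MvPolynomial.C r))
      rw [MvPolynomial.optionEquivLeft_C, coe_mapRingHom, Polynomial.map_C]
      simp only [beta, MvPolynomial.aeval_C]
      change _ = C (gt (MvPolynomial.C r))
      rw [← MvPolynomial.algebraMap_eq, gt.commutes]
      rfl
    · intro o
      change beta k _ (MvPolynomial.X o) = mapRingHom (algebraMap (MvPolynomial σ k) B)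
        (MvPolynomial.optionEquivLeft k σ (MvPolynomial.X o))
      cases o with
      | none =>
        rw [MvPolynomial.optionEquivLeft_X_none, coe_mapRingHom, Polynomial.map_X]
        simp [beta]
      | some i =>
        rw [MvPolynomial.optionEquivLeft_X_some, coe_mapRingHom, Polynomial.map_C]
        simp only [beta, MvPolynomial.aeval_X]
        rfl
  rw [h3]
  exact RingHom.Etale.respectsIso.2 _ _ h2

end

section QF

variable (t p : σ → B) (M : Ideal B)

/-- The point `(x, 0)`. -/
noncomputable def q0 : Ideal B[X] := M.comap (Polynomial.evalRingHom 0)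

instance [M.IsMaximal] : (q0 M).IsMaximal :=
  Ideal.comap_isMaximal_of_surjective _ (fun b => ⟨C b, by simp⟩)

theorem X_mem_q0 : (X : B[X]) ∈ q0 M := by
  simp [q0, Ideal.mem_comap]

theorem C_mem_q0 (b : B) : C b ∈ q0 M ↔ b ∈ M := by
  simp [q0, Ideal.mem_comap]

/-- A prime containing `X` and `M` is `q0 M`. -/
theorem eq_q0 (Q : Ideal B[X]) [hQ : Q.IsPrime] [M.IsMaximal] (hX : X ∈ Q) (h : Q.comap C = M) :
    Q = q0 M := by
  symm
  refine Ideal.IsMaximal.eq_of_le inferInstance hQ.ne_top ?_
  intro f hf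
  have h1 : C (f.eval 0) ∈ Q := by
    change f.eval 0 ∈ Q.comap C
    rw [h]
    exact hf
  have h2 : X * f.divX ∈ Q := Q.mul_mem_right _ hX
  have h3 : f = X * f.divX + C (f.eval 0) := by
    conv_lhs => rw [← Polynomial.divX_mul_X_add f]
    rw [Polynomial.coeff_zero_eq_eval_zero]
    ring
  rw [h3]
  exact Q.add_mem h2 h1

/-- **Quasi-finiteness** of `B[λ]` over `k[λ, c]` at `(x, 0)`. -/
theorem quasiFiniteAt [M.IsMaximal] [Algebra.FiniteType k B] (hpM : ∀ i, p i ∈ M)
    (hM : ∀ Q : Ideal B, Q.IsPrime → (∀ i, p i ∈ Q) → Q = M)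
    [Algebra (MvPolynomial (Option σ) k) B[X]] [IsScalarTower k (MvPolynomial (Option σ) k) B[X]]
    (halg : ∀ z, algebraMap (MvPolynomial (Option σ) k) B[X] z = alpha k t p z) :
    Algebra.QuasiFiniteAt (MvPolynomial (Option σ) k) (q0 M) := by
  have hft : Algebra.FiniteType k B[X] := .trans (R := k) (S := B) inferInstance inferInstance
  have hft' : Algebra.FiniteType (MvPolynomial (Option σ) k) B[X] :=
    .of_restrictScalars_finiteType k _ _
  let q : PrimeSpectrum B[X] := ⟨q0 M, inferInstance⟩
  change Algebra.QuasiFiniteAt (MvPolynomial (Option σ) k) q.asIdeal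
  apply Algebra.QuasiFiniteAt.of_isOpen_singleton_fiber q
  have hn : ∀ z : B[X], (∃ a, algebraMap (MvPolynomial (Option σ) k) B[X] a = z ∧ z ∈ q0 M) →
      ∀ Q : PrimeSpectrum B[X], Q.comap (algebraMap (MvPolynomial (Option σ) k) B[X]) =
        q.comap (algebraMap (MvPolynomial (Option σ) k) B[X]) → z ∈ Q.asIdeal := by
    rintro z ⟨a, rfl, ha⟩ Q hQ
    have h1 : a ∈ (q.comap (algebraMap (MvPolynomial (Option σ) k) B[X])).asIdeal := ha
    rw [← hQ] at h1
    exact h1
  have huniq : ∀ Q : PrimeSpectrum B[X], Q.comap (algebraMap (MvPolynomial (Option σ) k) B[X]) =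
        q.comap (algebraMap (MvPolynomial (Option σ) k) B[X]) → Q = q := by
    intro Q hQ
    have hX : X ∈ Q.asIdeal := hn X ⟨MvPolynomial.X none, by rw [halg]; simp [alpha],
      X_mem_q0 M⟩ Q hQ
    have hp : ∀ i, C (p i) ∈ Q.asIdeal := by
      intro i
      have h1 : C (p i) + X * C (t i) ∈ Q.asIdeal :=
        hn _ ⟨MvPolynomial.X (some i), by rw [halg]; simp [alpha], (q0 M).add_mem
          ((C_mem_q0 M _).2 (hpM i)) ((q0 M).mul_mem_right _ (X_mem_q0 M))⟩ Q hQ
      have h2 : X * C (t i) ∈ Q.asIdeal := Q.asIdeal.mul_mem_right _ hX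
      exact (Q.asIdeal.add_mem_iff_left h2).1 h1
    have hprime : (Q.asIdeal.comap C).IsPrime := Ideal.IsPrime.comap _
    exact PrimeSpectrum.ext (eq_q0 M Q.asIdeal hX (hM _ hprime hp))
  have : Subsingleton (PrimeSpectrum.comap (algebraMap (MvPolynomial (Option σ) k) B[X]) ⁻¹'
      {q.comap (algebraMap (MvPolynomial (Option σ) k) B[X])}) :=
    ⟨fun a b => Subtype.ext ((huniq a.1 a.2).trans (huniq b.1 b.2).symm)⟩
  exact isOpen_discrete _

end QF

/-- A nonzerodivisor in a finite algebra over a domain divides a nonzero element of the base. -/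
theorem exists_dvd_algebraMap {R S : Type*} [CommRing R] [Nontrivial R] [CommRing S] [Algebra R S]
    [Module.Finite R S] (g : S) (hg : ∀ x, g * x = 0 → x = 0) :
    ∃ r : R, r ≠ 0 ∧ g ∣ algebraMap R S r := by
  obtain ⟨f, hf, hf0⟩ := Algebra.IsIntegral.isIntegral (R := R) g
  induction hn : f.natDegree generalizing f with
  | zero =>
    have : f = 1 := Polynomial.eq_one_of_monic_natDegree_zero hf hn
    subst this
    have h1 : (1 : S) = 0 := by simpa using hf0
    exact ⟨1, one_ne_zero, ⟨0, by rw [map_one, h1, mul_zero]⟩⟩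
  | succ n ih =>
    have h1 : f = X * f.divX + C (f.coeff 0) := by
      conv_lhs => rw [← Polynomial.divX_mul_X_add f]
      ring
    by_cases h0 : f.coeff 0 = 0
    · refine ih f.divX ?_ ?_ ?_
      · rw [h0, C_0, add_zero] at h1
        rw [h1] at hf
        exact Monic.of_mul_monic_left monic_X hf
      · rw [h0, C_0, add_zero] at h1
        rw [h1, eval₂_mul, eval₂_X] at hf0
        exact hg _ hf0
      · rw [Polynomial.natDegree_divX_eq_natDegree_tsub_one, hn]
        rfl
    · refine ⟨f.coeff 0, h0, ?_⟩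
      rw [h1, eval₂_add, eval₂_mul, eval₂_X, eval₂_C] at hf0
      have h2 : algebraMap R S (f.coeff 0) = g * (-(eval₂ (algebraMap R S) g f.divX)) := by
        rw [mul_neg, eq_neg_iff_add_eq_zero, add_comm]
        exact hf0
      exact ⟨_, h2⟩

end Groth.Agent.Sga4h.H13.FamRing
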