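import Groth.Agent.Sga4h.H13.FamRing1
import Mathlib.RingTheory.Jacobson.Ring
import Mathlib.RingTheory.TensorProduct.Quotient

/-!
# Étale neighbourhoods splitting off a finite part, with a domain as base
-/

set_option autoImplicit false
universe u

open TensorProduct

namespace Groth.Agent.Sga4h.H13.FamRing

/-- Points of a finitely generated algebra over an algebraically closed field. -/
theorem exists_algHom_of_isMaximal {k A : Type*} [Field k] [IsAlgClosed k] [CommRing A]
    [Algebra k A] [Algebra.FiniteType k A] (m : Ideal A) [m.IsMaximal] :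
    ∃ φ : A →ₐ[k] k, RingHom.ker φ = m := by
  let _ : Field (A ⧸ m) := Ideal.Quotient.field m
  have hfin : Module.Finite k (A ⧸ m) := finite_of_finite_type_of_isJacobsonRing k (A ⧸ m)
  have hb : Function.Bijective (algebraMap k (A ⧸ m)) :=
    IsAlgClosed.algebraMap_bijective_of_isIntegral
  let e : k ≃ₐ[k] (A ⧸ m) := AlgEquiv.ofBijective (Algebra.ofId k (A ⧸ m)) hb
  refine ⟨(e.symm : (A ⧸ m) →ₐ[k] k).comp (Ideal.Quotient.mkₐ k m), ?_⟩
  ext x
  simp only [RingHom.mem_ker, AlgHom.coe_comp, Function.comp_apply]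
  constructor
  · intro h
    have : (Ideal.Quotient.mkₐ k m) x = 0 := by
      have := congrArg e h
      simpa using this
    exact Ideal.Quotient.eq_zero_iff_mem.1 this
  · intro h
    have : (Ideal.Quotient.mkₐ k m) x = 0 := Ideal.Quotient.eq_zero_iff_mem.2 h
    rw [this, map_zero]

section

variable {A S : Type u} [CommRing A] [CommRing S] [Algebra A S]

/-- Base change of a finite localization. -/
theorem finite_away_baseChange (R₁ R : Type u) [CommRing R₁] [CommRing R] [Algebra A R₁]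
    [Algebra A R] [Algebra R₁ R] [IsScalarTower A R₁ R] (e : R₁ ⊗[A] S)
    [Module.Finite R₁ (Localization.Away e)] :
    Module.Finite R (Localization.Away
      (Algebra.TensorProduct.map (Algebra.ofId R₁ R) (AlgHom.id A S) e)) := by
  let φ : R₁ ⊗[A] S →ₐ[R₁] R ⊗[A] S :=
    Algebra.TensorProduct.map (Algebra.ofId R₁ R) (AlgHom.id A S)
  change Module.Finite R (Localization.Away (φ e))
  have hu : IsUnit (algebraMap (R ⊗[A] S) (Localization.Away (φ e)) (φ e)) :=
    IsLocalization.Away.algebraMap_isUnit _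
  let ψ₁ : Localization.Away e →ₐ[R₁] Localization.Away (φ e) :=
    IsLocalization.liftAlgHom (M := Submonoid.powers e) (S := Localization.Away e)
      (f := (IsScalarTower.toAlgHom R₁ (R ⊗[A] S) (Localization.Away (φ e))).comp φ) (by
        rintro ⟨_, n, rfl⟩
        simp only [AlgHom.coe_comp, Function.comp_apply, map_pow]
        exact hu.pow n)
  have hψ₁ : ∀ x, ψ₁ (algebraMap _ _ x) = algebraMap _ _ (φ x) := fun x =>
    IsLocalization.lift_eq _ x
  let Ψ : R ⊗[R₁] Localization.Away e →ₐ[R] Localization.Away (φ e) :=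
    Algebra.TensorProduct.lift (Algebra.ofId R _) ψ₁ (fun _ _ => .all _ _)
  have hrange : ∀ x : R ⊗[A] S, algebraMap _ (Localization.Away (φ e)) x ∈ Ψ.range := by
    intro x
    induction x using TensorProduct.induction_on with
    | zero => rw [map_zero]; exact Ψ.range.zero_mem
    | add x y hx hy => rw [map_add]; exact Ψ.range.add_mem hx hy
    | tmul r s =>
      have h1 : (r ⊗ₜ[A] s : R ⊗[A] S) = (r ⊗ₜ 1) * φ (1 ⊗ₜ s) := by
        simp [φ, Algebra.TensorProduct.tmul_mul_tmul]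
      rw [h1, map_mul, ← hψ₁]
      refine Ψ.range.mul_mem ?_ ⟨1 ⊗ₜ algebraMap _ _ (1 ⊗ₜ[A] s : R₁ ⊗[A] S), ?_⟩
      · exact Ψ.range.algebraMap_mem r
      · simp [Ψ]
  have hsurj : Function.Surjective Ψ := by
    intro y
    obtain ⟨x, ⟨_, n, rfl⟩, rfl⟩ := IsLocalization.exists_mk'_eq (Submonoid.powers (φ e)) y
    obtain ⟨a, ha⟩ := hrange x
    refine ⟨a * (1 ⊗ₜ IsLocalization.mk' _ (1 : R₁ ⊗[A] S)
      (⟨e ^ n, n, rfl⟩ : Submonoid.powers e)), ?_⟩
    rw [map_mul]
    have h1 : Ψ a = algebraMap _ _ x := ha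
    rw [h1]
    have h2 : Ψ (1 ⊗ₜ IsLocalization.mk' _ (1 : R₁ ⊗[A] S)
      (⟨e ^ n, n, rfl⟩ : Submonoid.powers e)) = ψ₁ (IsLocalization.mk' _ (1 : R₁ ⊗[A] S)
      (⟨e ^ n, n, rfl⟩ : Submonoid.powers e)) := by
      simp [Ψ]
    rw [h2, IsLocalization.eq_mk'_iff_mul_eq, mul_assoc]
    have h3 : algebraMap (R ⊗[A] S) (Localization.Away (φ e)) (φ e ^ n) =
        ψ₁ (algebraMap _ _ (e ^ n)) := by
      rw [hψ₁, map_pow φ]
    change algebraMap _ _ x * (_ * algebraMap (R ⊗[A] S) (Localization.Away (φ e)) (φ e ^ n)) = _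
    have h4 : IsLocalization.mk' (Localization.Away e) (1 : R₁ ⊗[A] S)
        (⟨e ^ n, n, rfl⟩ : Submonoid.powers e) * algebraMap _ _ (e ^ n) =
        algebraMap _ (Localization.Away e) (1 : R₁ ⊗[A] S) :=
      IsLocalization.mk'_spec (Localization.Away e) (1 : R₁ ⊗[A] S)
        (⟨e ^ n, n, rfl⟩ : Submonoid.powers e)
    rw [h3, ← map_mul, h4, map_one, map_one, mul_one]
  exact Module.Finite.of_surjective Ψ.toLinearMap hsurj

variable [Algebra.FiniteType A S]

/-- The étale neighbourhood in Zariski's main theorem can be taken to be a domain. -/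
theorem exists_etale_domain (p : Ideal A) [p.IsMaximal] (q : Ideal S) [q.IsPrime] [q.LiesOver p]
    [Algebra.QuasiFiniteAt A q]
    (hdom : ∀ (R' : Type u) [CommRing R'] [Algebra A R'] [Algebra.Etale A R'] (P : Ideal R')
      [P.IsPrime], ∃ g : R', g ∉ P ∧ IsDomain (Localization.Away g)) :
    ∃ (R : Type u) (_ : CommRing R) (_ : IsDomain R) (_ : Algebra A R) (_ : Algebra.Etale A R)
      (P : Ideal R) (_ : P.IsMaximal) (e : R ⊗[A] S) (P' : Ideal (R ⊗[A] S)) (_ : P'.IsPrime),
      P'.comap (Algebra.TensorProduct.includeLeft : R →ₐ[A] R ⊗[A] S).toRingHom = P ∧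
      P'.comap (Algebra.TensorProduct.includeRight : S →ₐ[A] R ⊗[A] S).toRingHom = q ∧ e ∉ P' ∧
      Module.Finite R (Localization.Away e) := by
  obtain ⟨R₁, _, _, _, P₁, hP₁, hP₁p, e₁, -, P₁', hP₁', hP₁'P, hq, he, hbij, hfin, -⟩ :=
    Algebra.exists_etale_isIdempotentElem_forall_liesOver_eq p q
  obtain ⟨g, hg, hgd⟩ := hdom R₁ P₁
  let R := Localization.Away g
  let φ : R₁ ⊗[A] S →ₐ[R₁] R ⊗[A] S :=
    Algebra.TensorProduct.map (Algebra.ofId R₁ R) (AlgHom.id A S)
  let := φ.toAlgebra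
  let := IsScalarTower.of_algebraMap_eq' φ.comp_algebraMap.symm
  have hloc : IsLocalization.Away (R := R₁ ⊗[A] S) (g ⊗ₜ 1) (R ⊗[A] S) := by
    have : .powers (g ⊗ₜ[A] 1) = Algebra.algebraMapSubmonoid (R₁ ⊗[A] S) (.powers g) := by simp
    rw [IsLocalization.Away, this]
    refine IsLocalization.tensorProduct_tensorProduct _ _ _ _ ?_
    ext; simp [RingHom.algebraMap_toAlgebra, φ]
  have hgP' : (g ⊗ₜ[A] 1 : R₁ ⊗[A] S) ∉ P₁' := by
    change g ∉ P₁'.under _
    rwa [← P₁'.over_def P₁]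
  have hdisj : Disjoint (Submonoid.powers (g ⊗ₜ 1 : R₁ ⊗[A] S) : Set (R₁ ⊗[A] S)) ↑P₁' := by
    rw [Ideal.disjoint_powers_iff_notMem_of_isPrime]
    exact hgP'
  let P' := P₁'.map (algebraMap (R₁ ⊗[A] S) (R ⊗[A] S))
  have hP' : P'.IsPrime := IsLocalization.isPrime_of_isPrime_disjoint _ _ _ ‹_› hdisj
  have hcomap : P'.comap (algebraMap (R₁ ⊗[A] S) (R ⊗[A] S)) = P₁' :=
    IsLocalization.under_map_of_isPrime_disjoint (.powers (g ⊗ₜ 1 : R₁ ⊗[A] S)) _ ‹_› hdisj
  let P := P₁.map (algebraMap R₁ R)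
  have hdisj2 : Disjoint (Submonoid.powers g : Set R₁) ↑P₁ := by
    rwa [Ideal.disjoint_powers_iff_notMem_of_isPrime]
  have hcomap2 : P.comap (algebraMap R₁ R) = P₁ :=
    IsLocalization.under_map_of_isPrime_disjoint (.powers g) _ ‹_› hdisj2
  -- `P₁` is maximal
  have hmax1 : P₁.IsMaximal := by
    have hsurj : Function.Surjective (algebraMap (R₁ ⧸ P₁) P₁.ResidueField) := by
      intro y
      obtain ⟨z, rfl⟩ := hbij.2 y
      have h1 : Function.Bijective (algebraMap (A ⧸ p) p.ResidueField) :=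
        Ideal.bijective_algebraMap_quotient_residueField p
      obtain ⟨a, rfl⟩ := h1.2 z
      obtain ⟨a, rfl⟩ := Ideal.Quotient.mk_surjective a
      refine ⟨Ideal.Quotient.mk _ (algebraMap A R₁ a), ?_⟩
      have h2 : algebraMap (A ⧸ p) p.ResidueField (Ideal.Quotient.mk p a) =
          algebraMap A p.ResidueField a := rfl
      have h3 : algebraMap (R₁ ⧸ P₁) P₁.ResidueField (Ideal.Quotient.mk P₁ (algebraMap A R₁ a)) =
          algebraMap A P₁.ResidueField a := rfl
      rw [h2, h3]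
      exact ((Ideal.ResidueField.mapₐ p P₁ (Algebra.ofId A R₁) (P₁.over_def p)).commutes a).symm
    have hb : Function.Bijective (algebraMap (R₁ ⧸ P₁) P₁.ResidueField) :=
      ⟨P₁.injective_algebraMap_quotient_residueField, hsurj⟩
    have hf : IsField (R₁ ⧸ P₁) :=
      (MulEquiv.isField (Field.toIsField P₁.ResidueField)
        (RingEquiv.ofBijective _ hb).toMulEquiv)
    exact Ideal.Quotient.maximal_of_isField P₁ hf
  have hPprime : P.IsPrime := IsLocalization.isPrime_of_isPrime_disjoint (.powers g) _ _ ‹_› hdisj2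
  have hmax : P.IsMaximal := by
    obtain ⟨N, hN, hPN⟩ := Ideal.exists_le_maximal P hPprime.ne_top
    have h1 : P₁ ≤ N.comap (algebraMap R₁ R) := by
      rw [← hcomap2]
      exact Ideal.comap_mono hPN
    have h2 : N.comap (algebraMap R₁ R) = P₁ :=
      (hmax1.eq_of_le (Ideal.comap_ne_top _ hN.ne_top) h1).symm
    have h3 : N = P := by
      rw [← IsLocalization.map_under (.powers g) R N]
      change (N.comap (algebraMap R₁ R)).map (algebraMap R₁ R) = P
      rw [h2]
    rw [← h3]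
    exact hN
  have hfin' := finite_away_baseChange R₁ R e₁ (S := S)
  refine ⟨R, inferInstance, hgd, inferInstance, Algebra.Etale.comp A R₁ R, P, hmax, φ e₁, P', hP',
    ?_, ?_, ?_, hfin'⟩
  · have h1 : (P'.comap (Algebra.TensorProduct.includeLeft : R →ₐ[A] R ⊗[A] S).toRingHom).comap
        (algebraMap R₁ R) = P₁ := by
      rw [P₁'.over_def P₁, ← hcomap, Ideal.under, Ideal.comap_comap, Ideal.comap_comap]
      congr 1
    have h2 : P ≤ P'.comap (Algebra.TensorProduct.includeLeft : R →ₐ[A] R ⊗[A] S).toRingHom := by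
      rw [Ideal.map_le_iff_le_comap, h1]
    exact (hmax.eq_of_le (Ideal.comap_ne_top _ hP'.ne_top) h2).symm
  · rw [← hq, ← hcomap, Ideal.comap_comap]
    congr 1
    ext
    simp [RingHom.algebraMap_toAlgebra, φ]
  · change e₁ ∉ P'.comap (algebraMap (R₁ ⊗[A] S) (R ⊗[A] S))
    rwa [hcomap]

end

end Groth.Agent.Sga4h.H13.FamRing
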