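import Groth.Agent.Sga4h.H13.FamRing2

/-!
# The equations `p + λ t = c` over an étale `k[λ, c]`-algebra
-/

set_option autoImplicit false
universe u

open TensorProduct Polynomial

namespace Groth.Agent.Sga4h.H13.FamRing

variable {k : Type u} [Field k] {B : Type u} [CommRing B] [Algebra k B] {σ : Type u}

section Eqn

variable (t p : σ → B) {R : Type u} [CommRing R] [Algebra k R] (lam : R) (c : σ → R)

/-- The functions `p_i + λ t_i - c_i`. -/
noncomputable def eqn (i : σ) : R ⊗[k] B := 1 ⊗ₜ p i + lam ⊗ₜ t i - c i ⊗ₜ 1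

/-- The ideal generated by the `p_i + λ t_i - c_i`. -/
noncomputable def eqI : Ideal (R ⊗[k] B) := Ideal.span (Set.range (eqn t p lam c))

end Eqn

section Iso

variable (t p : σ → B) (R : Type u) [CommRing R] [Algebra k R]
  [Algebra (MvPolynomial (Option σ) k) R] [IsScalarTower k (MvPolynomial (Option σ) k) R]
  [Algebra (MvPolynomial (Option σ) k) B[X]] [IsScalarTower k (MvPolynomial (Option σ) k) B[X]]

/-- `λ ∈ R` -/
noncomputable abbrev lamR (σ : Type u) (R : Type u) [CommRing R] [Algebra (MvPolynomial (Option σ) k) R] : R :=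
  algebraMap (MvPolynomial (Option σ) k) R (MvPolynomial.X none)

/-- `c_i ∈ R` -/
noncomputable abbrev cR (R : Type u) [CommRing R] [Algebra (MvPolynomial (Option σ) k) R] (i : σ) : R :=
  algebraMap (MvPolynomial (Option σ) k) R (MvPolynomial.X (some i))

/-- `R ⊗ B → R ⊗ B[λ]` -/
noncomputable def theta0 : R ⊗[k] B →ₐ[R] R ⊗[MvPolynomial (Option σ) k] B[X] :=
  Algebra.TensorProduct.lift (Algebra.ofId R _)
    (((Algebra.TensorProduct.includeRight : B[X] →ₐ[MvPolynomial (Option σ) k]
      R ⊗[MvPolynomial (Option σ) k] B[X]).restrictScalars k).comp (Polynomial.CAlgHom : B →ₐ[k] B[X]))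
    (fun _ _ => .all _ _)

theorem theta0_tmul (r : R) (b : B) : theta0 (k := k) (σ := σ) R (r ⊗ₜ[k] b) = r ⊗ₜ C b := by
  simp [theta0, Algebra.ofId_apply, Algebra.TensorProduct.algebraMap_apply]

variable {R}
variable (halg : ∀ z, algebraMap (MvPolynomial (Option σ) k) B[X] z = alpha k t p z)

include halg

theorem theta0_eqn (i : σ) : theta0 (k := k) (σ := σ) R (eqn t p (lamR (k := k) σ R) (cR (k := k) R) i) = 0 := by
  simp only [eqn, map_add, map_sub, theta0_tmul, map_one]
  have h1 : (lamR (k := k) σ R ⊗ₜ[MvPolynomial (Option σ) k] C (t i) :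
      R ⊗[MvPolynomial (Option σ) k] B[X]) = 1 ⊗ₜ (X * C (t i)) := by
    have : lamR (k := k) σ R = (MvPolynomial.X none : MvPolynomial (Option σ) k) • (1 : R) := by
      rw [Algebra.smul_def, mul_one]
    rw [this, TensorProduct.smul_tmul, Algebra.smul_def, halg]
    simp [alpha]
  have h2 : (cR (k := k) R i ⊗ₜ[MvPolynomial (Option σ) k] (1 : B[X]) :
      R ⊗[MvPolynomial (Option σ) k] B[X]) = 1 ⊗ₜ (C (p i) + X * C (t i)) := by
    have : cR (k := k) R i = (MvPolynomial.X (some i) : MvPolynomial (Option σ) k) • (1 : R) := by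
      rw [Algebra.smul_def, mul_one]
    rw [this, TensorProduct.smul_tmul, Algebra.smul_def, halg]
    simp [alpha]
  rw [h1, h2, ← TensorProduct.tmul_add, ← TensorProduct.tmul_sub, sub_self,
    TensorProduct.tmul_zero]

/-- `(R ⊗ B) / (p + λ t - c) → R ⊗ B[λ]` -/
noncomputable def theta1 : (R ⊗[k] B) ⧸ eqI t p (lamR (k := k) σ R) (cR (k := k) R) →ₐ[R]
    R ⊗[MvPolynomial (Option σ) k] B[X] :=
  Ideal.Quotient.liftₐ _ (theta0 (k := k) (σ := σ) R) (by
    intro a ha
    have h1 : eqI t p (lamR (k := k) σ R) (cR (k := k) R) ≤ RingHom.ker (theta0 (k := k) (B := B) (σ := σ) R) := by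
      rw [eqI, Ideal.span_le]
      rintro _ ⟨i, rfl⟩
      exact theta0_eqn t p halg i
    exact h1 ha)

omit [IsScalarTower k (MvPolynomial (Option σ) k) B[X]] in
/-- The evaluation `B[λ] → (R ⊗ B) / (p + λ t - c)`. -/
theorem exists_ev : ∃ ev : B[X] →ₐ[MvPolynomial (Option σ) k]
    (R ⊗[k] B) ⧸ eqI t p (lamR (k := k) σ R) (cR (k := k) R),
    (∀ b, ev (C b) = Ideal.Quotient.mk _ (1 ⊗ₜ b)) ∧
    ev X = Ideal.Quotient.mk _ (lamR (k := k) σ R ⊗ₜ 1) := by
  let f0 : B →+* (R ⊗[k] B) ⧸ eqI t p (lamR (k := k) σ R) (cR (k := k) R) :=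
    (Ideal.Quotient.mk _).comp (Algebra.TensorProduct.includeRight : B →ₐ[k] R ⊗[k] B).toRingHom
  let f : B[X] →+* (R ⊗[k] B) ⧸ eqI t p (lamR (k := k) σ R) (cR (k := k) R) :=
    eval₂RingHom f0 (Ideal.Quotient.mk _ (lamR (k := k) σ R ⊗ₜ 1))
  have hC : ∀ b, f (C b) = Ideal.Quotient.mk _ (1 ⊗ₜ b) := fun b => by
    simp only [f, coe_eval₂RingHom, eval₂_C]
    rfl
  have hX : f X = Ideal.Quotient.mk _ (lamR (k := k) σ R ⊗ₜ 1) := by
    simp only [f, coe_eval₂RingHom, eval₂_X]
  have hcomm : f.comp (algebraMap (MvPolynomial (Option σ) k) B[X]) =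
      algebraMap (MvPolynomial (Option σ) k) _ := by
    apply MvPolynomial.ringHom_ext
    · intro r
      have h1 : algebraMap (MvPolynomial (Option σ) k) B[X] (MvPolynomial.C r) =
          C (algebraMap k B r) := by
        rw [halg]
        simp [alpha]
      rw [RingHom.comp_apply, h1, hC]
      have h2 : algebraMap (MvPolynomial (Option σ) k)
          ((R ⊗[k] B) ⧸ eqI t p (lamR (k := k) σ R) (cR (k := k) R)) (MvPolynomial.C r) =
          Ideal.Quotient.mk _ (algebraMap (MvPolynomial (Option σ) k) R (MvPolynomial.C r) ⊗ₜ 1) := rfl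
      rw [h2]
      congr 1
      have h3 : algebraMap (MvPolynomial (Option σ) k) R (MvPolynomial.C r) = algebraMap k R r := by
        rw [IsScalarTower.algebraMap_apply k (MvPolynomial (Option σ) k) R]
        rfl
      rw [h3, Algebra.algebraMap_eq_smul_one, Algebra.algebraMap_eq_smul_one, TensorProduct.smul_tmul]
    · intro o
      have h2 : algebraMap (MvPolynomial (Option σ) k)
          ((R ⊗[k] B) ⧸ eqI t p (lamR (k := k) σ R) (cR (k := k) R)) (MvPolynomial.X o) =
          Ideal.Quotient.mk _ (algebraMap (MvPolynomial (Option σ) k) R (MvPolynomial.X o) ⊗ₜ 1) := rfl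
      rw [RingHom.comp_apply, halg, h2]
      cases o with
      | none =>
        simp only [alpha, MvPolynomial.aeval_X, Option.elim]
        exact hX
      | some i =>
        simp only [alpha, MvPolynomial.aeval_X, Option.elim, map_add, map_mul]
        rw [hC, hC, hX, ← map_mul, ← map_add, Ideal.Quotient.eq]
        refine Ideal.subset_span ⟨i, ?_⟩
        simp [eqn, Algebra.TensorProduct.tmul_mul_tmul]
  refine ⟨⟨f, fun z => ?_⟩, hC, hX⟩
  exact RingHom.congr_fun hcomm z

/-- `(R ⊗ B) / (p + λ t - c) ≅ R ⊗ B[λ]` -/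
theorem theta1_bijective : Function.Bijective (theta1 (R := R) t p halg) := by
  obtain ⟨ev, h1, h2⟩ := exists_ev (R := R) t p halg
  let τ : R ⊗[MvPolynomial (Option σ) k] B[X] →ₐ[R]
      (R ⊗[k] B) ⧸ eqI t p (lamR (k := k) σ R) (cR (k := k) R) :=
    Algebra.TensorProduct.lift (Algebra.ofId R _) ev (fun _ _ => .all _ _)
  have hτ : ∀ (r : R) (f : B[X]), τ (r ⊗ₜ f) = algebraMap R _ r * ev f := fun r f => by
    simp [τ, Algebra.ofId_apply]
  have hθ : ∀ (r : R) (b : B), theta1 (R := R) t p halg (Ideal.Quotient.mk _ (r ⊗ₜ b)) =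
      r ⊗ₜ C b := fun r b => theta0_tmul (k := k) (σ := σ) R r b
  have hl : ∀ x, τ (theta1 (R := R) t p halg x) = x := by
    intro x
    obtain ⟨x, rfl⟩ := Ideal.Quotient.mk_surjective x
    induction x using TensorProduct.induction_on with
    | zero => simp
    | add x y hx hy => rw [map_add, map_add, map_add, hx, hy]
    | tmul r b =>
      rw [hθ, hτ, h1]
      have : algebraMap R ((R ⊗[k] B) ⧸ eqI t p (lamR (k := k) σ R) (cR (k := k) R)) r =
          Ideal.Quotient.mk _ (r ⊗ₜ 1) := rfl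
      rw [this, ← map_mul]
      simp [Algebra.TensorProduct.tmul_mul_tmul]
  have hr : ∀ x, theta1 (R := R) t p halg (τ x) = x := by
    have hcomp : ((theta1 (R := R) t p halg).restrictScalars (MvPolynomial (Option σ) k)).comp ev =
        (Algebra.TensorProduct.includeRight : B[X] →ₐ[MvPolynomial (Option σ) k]
          R ⊗[MvPolynomial (Option σ) k] B[X]) := by
      apply AlgHom.coe_ringHom_injective
      apply Polynomial.ringHom_ext
      · intro b
        change theta1 (R := R) t p halg (ev (C b)) = 1 ⊗ₜ C b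
        rw [h1, hθ]
      · change theta1 (R := R) t p halg (ev X) = 1 ⊗ₜ X
        rw [h2, hθ]
        have h3 : lamR (k := k) σ R = (MvPolynomial.X none : MvPolynomial (Option σ) k) • (1 : R) := by
          rw [Algebra.smul_def, mul_one]
        rw [h3, TensorProduct.smul_tmul, Algebra.smul_def, halg]
        simp [alpha]
    intro x
    induction x using TensorProduct.induction_on with
    | zero => simp
    | add x y hx hy => rw [map_add, map_add, hx, hy]
    | tmul r f =>
      rw [hτ, map_mul]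
      have h4 : theta1 (R := R) t p halg (ev f) = 1 ⊗ₜ f := congrArg (fun g => g f) hcomp
      rw [h4]
      have h5 : theta1 (R := R) t p halg (algebraMap R _ r) = r ⊗ₜ 1 := by
        rw [AlgHom.commutes]; rfl
      rw [h5, Algebra.TensorProduct.tmul_mul_tmul, mul_one, one_mul]
  exact ⟨fun a b hab => by rw [← hl a, hab, hl b], fun y => ⟨τ y, hr y⟩⟩

end Iso

end Groth.Agent.Sga4h.H13.FamRing
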