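import Mathlib.AlgebraicGeometry.AffineSpace
import Mathlib.AlgebraicGeometry.Morphisms.Separated
import Mathlib.AlgebraicGeometry.Morphisms.Finite
import Mathlib.AlgebraicGeometry.Morphisms.Proper
import Mathlib.AlgebraicGeometry.Morphisms.Etale
import Mathlib.AlgebraicGeometry.Morphisms.Smooth
import Mathlib.FieldTheory.IsAlgClosed.Basic
import Groth.Prelude.Def_FinFr

/-!
# Lefschetz fixed point formula (S4246): statements of the geometric part (families)

`Aff k d = 𝔸^d_k`, `origin k d` its origin. A *datum* `D : Dat y d` on a scheme `y : Y ⟶ Spec k` is an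
open `W` of `Y` with a `k`-morphism `Φ : W ⟶ 𝔸^d` whose zero set `D.Z = Φ⁻¹(0)` is closed in `Y`. It has a
pull-back along every `g : Y' ⟶ Y`, and restrictions to smaller opens containing `D.Z`.
(A datum gives a class with support `D.Z`, the pull-back by `Φ` of a fixed generator of `H^{2d}_0(𝔸^d)`.)

* `StmtA`: a map `ψ : N ⟶ 𝔸^d` with the only zero `x`, of multiplicity `m`, on an open `N` of `X` which
  is étale over `𝔸^d`, is the member at `s₀` of a family over a connected `S` whose member at `s₁` has `m`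
  distinct zeros, and is étale at these zeros;
* `StmtB`: two étale maps `N ⟶ 𝔸^d` vanishing at `x` are members of a family over a connected `S` of
  maps whose only zero (in the domain of the datum) is `x`;
* `StmtC`: for `t : N ⟶ 𝔸^d` étale, `t - t(x)`, `x ∈ N(k)`, is the member at `x` of a datum on `X × N`, the
  zero set of which is the diagonal.
* `StmtD`: the number of fixed points with multiplicity as the sum of the multiplicities of the zeros
  of `t - t ∘ f`, `t` étale coordinates.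
-/

set_option autoImplicit false
universe u
open CategoryTheory CategoryTheory.Limits AlgebraicGeometry Opposite

namespace Groth.Agent.Sga4h.H13

noncomputable section

/-- `𝔸^d` over a field `k`. -/
abbrev Aff (k : Type u) [Field k] (d : ℕ) : Scheme.{u} :=
  𝔸(ULift.{u} (Fin d); Spec (CommRingCat.of k))

/-- The structure morphism of `𝔸^d`. -/
abbrev Aff.str (k : Type u) [Field k] (d : ℕ) : Aff k d ⟶ Spec (CommRingCat.of k) :=
  𝔸(ULift.{u} (Fin d); Spec (CommRingCat.of k)) ↘ Spec (CommRingCat.of k)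

/-- The origin of `𝔸^d`. -/
def origin (k : Type u) [Field k] (d : ℕ) : Spec (CommRingCat.of k) ⟶ Aff k d :=
  AffineSpace.homOfVector (𝟙 _) 0

@[reassoc (attr := simp)]
theorem origin_str (k : Type u) [Field k] (d : ℕ) : origin k d ≫ Aff.str k d = 𝟙 _ :=
  AffineSpace.homOfVector_over _ _

/-- The zero set of a morphism to `𝔸^d`. -/
def zeros {k : Type u} [Field k] {d : ℕ} {T : Scheme.{u}} (f : T ⟶ Aff k d) : Set T :=
  f ⁻¹' Set.range (origin k d)

/-- The zero scheme of a morphism to `𝔸^d`. -/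
abbrev zeroScheme {k : Type u} [Field k] {d : ℕ} {T : Scheme.{u}} (f : T ⟶ Aff k d) : Scheme.{u} :=
  pullback f (origin k d)

/-- The coordinates of a morphism to `𝔸^d`. -/
def vec {k : Type u} [Field k] {d : ℕ} {T : Scheme.{u}} (f : T ⟶ Aff k d) (i : ULift.{u} (Fin d)) :
    Γ(T, ⊤) :=
  f.appTop (AffineSpace.coord (Spec (CommRingCat.of k)) i)

/-- The difference of two morphisms to `𝔸^d`. -/
def sub {k : Type u} [Field k] {d : ℕ} {T : Scheme.{u}} (f g : T ⟶ Aff k d) : T ⟶ Aff k d :=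
  AffineSpace.homOfVector (f ≫ Aff.str k d) (fun i => vec f i - vec g i)

/-- The dimension over `k` of the ring of functions of a `k`-scheme. -/
def gdim {k : Type u} [Field k] {F : Scheme.{u}} (c : F ⟶ Spec (CommRingCat.of k)) : ℕ :=
  letI : Algebra k (Γ(F, ⊤) : Type u) :=
    RingHom.toAlgebra ((Scheme.ΓSpecIso (CommRingCat.of k)).inv ≫ c.appTop).hom
  Module.finrank k (Γ(F, ⊤) : Type u)

theorem fixCount_eq {k : Type u} [Field k] {X : Scheme.{u}} (p : X ⟶ Spec (CommRingCat.of k))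
    (f : X ⟶ X) (hf : f ≫ p = p) : FinFr.fixCount p f hf = gdim (FinFr.fixSchemeTo p f hf) := rfl

/-- Multiplicity: the dimension of the ring of functions of the zero scheme. -/
def mult {k : Type u} [Field k] {d : ℕ} {T : Scheme.{u}} (f : T ⟶ Aff k d) : ℕ :=
  gdim (pullback.snd f (origin k d))

/-- A datum on the `k`-scheme `y : Y ⟶ Spec k`: a `k`-morphism from an open `W` of `Y` to `𝔸^d` whose zero
set is closed in `Y`. -/
structure Dat {k : Type u} [Field k] {Y : Scheme.{u}} (y : Y ⟶ Spec (CommRingCat.of k)) (d : ℕ) where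
  /-- the domain -/
  W : Y.Opens
  /-- the map -/
  Φ : W.toScheme ⟶ Aff k d
  over : Φ ≫ Aff.str k d = W.ι ≫ y
  closed : IsClosed (W.ι '' zeros Φ)

variable {k : Type u} [Field k]

namespace Dat

variable {Y Y' : Scheme.{u}} {y : Y ⟶ Spec (CommRingCat.of k)} {d : ℕ}

/-- The zero set of a datum. -/
def Z (D : Dat y d) : Set Y := D.W.ι '' zeros D.Φ

theorem Z_subset (D : Dat y d) : D.Z ⊆ D.W := by
  rintro _ ⟨z, -, rfl⟩
  exact z.2

theorem isClosed_Z (D : Dat y d) : IsClosed D.Z := D.closed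

/-- The open complement of the zero set. -/
def compl (D : Dat y d) : Y.Opens := ⟨D.Zᶜ, D.closed.isOpen_compl⟩

theorem image_zeros_pull (g : Y' ⟶ Y) (W : Y.Opens) (Φ : W.toScheme ⟶ Aff k d) :
    (g ⁻¹ᵁ W).ι '' zeros ((g ∣_ W) ≫ Φ) = g ⁻¹' (W.ι '' zeros Φ) := by
  ext z
  constructor
  · rintro ⟨w, hw, rfl⟩
    refine ⟨(g ∣_ W) w, ?_, ?_⟩
    · simpa [zeros] using hw
    · rw [← Scheme.Hom.comp_apply, morphismRestrict_ι, Scheme.Hom.comp_apply]
  · rintro ⟨w, hw, hwz⟩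
    have hz : z ∈ Set.range (g ⁻¹ᵁ W).ι := by
      rw [Scheme.Opens.range_ι]
      change g z ∈ W
      rw [← hwz]
      exact w.2
    obtain ⟨v, rfl⟩ := hz
    refine ⟨v, ?_, rfl⟩
    have h1 : (g ∣_ W) v = w := by
      apply W.ι.isOpenEmbedding.injective
      rw [← Scheme.Hom.comp_apply, morphismRestrict_ι, Scheme.Hom.comp_apply, hwz]
    change ((g ∣_ W) ≫ Φ) v ∈ Set.range (origin k d)
    rw [Scheme.Hom.comp_apply, h1]
    exact hw

/-- Pull-back of a datum. -/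
def pull (D : Dat y d) (g : Y' ⟶ Y) : Dat (g ≫ y) d where
  W := g ⁻¹ᵁ D.W
  Φ := (g ∣_ D.W) ≫ D.Φ
  over := by rw [Category.assoc, D.over, morphismRestrict_ι_assoc]
  closed := by
    rw [image_zeros_pull]
    exact D.closed.preimage g.continuous

theorem pull_Z (D : Dat y d) (g : Y' ⟶ Y) : (D.pull g).Z = g ⁻¹' D.Z :=
  image_zeros_pull g D.W D.Φ

theorem image_zeros_res {W O : Y.Opens} (h : O ≤ W) (Φ : W.toScheme ⟶ Aff k d) :
    O.ι '' zeros (Y.homOfLE h ≫ Φ) = (O : Set Y) ∩ W.ι '' zeros Φ := by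
  ext z
  constructor
  · rintro ⟨w, hw, rfl⟩
    refine ⟨w.2, Y.homOfLE h w, ?_, ?_⟩
    · simpa [zeros] using hw
    · rw [← Scheme.Hom.comp_apply, Scheme.homOfLE_ι]
  · rintro ⟨hz, w, hw, hwz⟩
    have hz' : z ∈ Set.range O.ι := by
      rw [Scheme.Opens.range_ι]
      exact hz
    obtain ⟨v, rfl⟩ := hz'
    refine ⟨v, ?_, rfl⟩
    have h1 : Y.homOfLE h v = w := by
      apply W.ι.isOpenEmbedding.injective
      rw [← Scheme.Hom.comp_apply, Scheme.homOfLE_ι, hwz]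
    change (Y.homOfLE h ≫ Φ) v ∈ Set.range (origin k d)
    rw [Scheme.Hom.comp_apply, h1]
    exact hw

/-- Restriction of a datum to a smaller open, on which the zero set remains closed. -/
def res (D : Dat y d) (O : Y.Opens) (h : O ≤ D.W) (hO : IsClosed ((O : Set Y) ∩ D.Z)) : Dat y d where
  W := O
  Φ := Y.homOfLE h ≫ D.Φ
  over := by rw [Category.assoc, D.over, Scheme.homOfLE_ι_assoc]
  closed := by
    rw [image_zeros_res]
    exact hO

theorem res_Z (D : Dat y d) (O : Y.Opens) (h : O ≤ D.W) (hO : IsClosed ((O : Set Y) ∩ D.Z)) :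
    (D.res O h hO).Z = (O : Set Y) ∩ D.Z :=
  image_zeros_res h D.Φ

end Dat

/-- The inclusion of the fibre of `X × S` over a rational point `s` of `S`. -/
def fib {X S : Scheme.{u}} (p : X ⟶ Spec (CommRingCat.of k)) (b : S ⟶ Spec (CommRingCat.of k))
    (s : Spec (CommRingCat.of k) ⟶ S) (hs : s ≫ b = 𝟙 _) : X ⟶ pullback p b :=
  pullback.lift (𝟙 X) (p ≫ s) (by rw [Category.id_comp, Category.assoc, hs, Category.comp_id])

@[reassoc (attr := simp)]
theorem fib_fst {X S : Scheme.{u}} (p : X ⟶ Spec (CommRingCat.of k)) (b : S ⟶ Spec (CommRingCat.of k))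
    (s : Spec (CommRingCat.of k) ⟶ S) (hs : s ≫ b = 𝟙 _) : fib p b s hs ≫ pullback.fst p b = 𝟙 X :=
  pullback.lift_fst _ _ _

@[reassoc (attr := simp)]
theorem fib_snd {X S : Scheme.{u}} (p : X ⟶ Spec (CommRingCat.of k)) (b : S ⟶ Spec (CommRingCat.of k))
    (s : Spec (CommRingCat.of k) ⟶ S) (hs : s ≫ b = 𝟙 _) : fib p b s hs ≫ pullback.snd p b = p ≫ s :=
  pullback.lift_snd _ _ _

/-- The datum `D` is, over its domain, the restriction of `ψ : N ⟶ 𝔸^d`. -/
def Dat.Of {X : Scheme.{u}} {q : X ⟶ Spec (CommRingCat.of k)} {d : ℕ} (D : Dat q d) (N : X.Opens)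
    (ψ : N.toScheme ⟶ Aff k d) : Prop :=
  ∃ h : D.W ≤ N, D.Φ = X.homOfLE h ≫ ψ

variable (k)

/-- **(a)** Splitting of a zero of multiplicity `m` into `m` simple zeros. -/
def StmtA : Prop :=
  ∀ {X : Scheme.{u}} (p : X ⟶ Spec (CommRingCat.of k)) [IsSeparated p] (d : ℕ) (N : X.Opens)
    (t ψ : N.toScheme ⟶ Aff k d) [Etale t] (_ : t ≫ Aff.str k d = N.ι ≫ p)
    (_ : ψ ≫ Aff.str k d = N.ι ≫ p) (x : N) (_ : zeros ψ = {x}),
    ∃ (S : Scheme.{u}) (b : S ⟶ Spec (CommRingCat.of k)) (_ : LocallyOfFiniteType b)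
      (_ : ConnectedSpace S) (D : Dat (pullback.fst p b ≫ p) d) (s₀ s₁ : Spec (CommRingCat.of k) ⟶ S)
      (h₀ : s₀ ≫ b = 𝟙 _) (h₁ : s₁ ≫ b = 𝟙 _),
      (x : X) ∈ (D.pull (fib p b s₀ h₀)).W ∧ (D.pull (fib p b s₀ h₀)).Of N ψ ∧
      (D.pull (fib p b s₁ h₁)).W ≤ N ∧
      ∃ y : Fin (mult ψ) → X, Function.Injective y ∧
        (D.pull (fib p b s₁ h₁)).Z = Set.range y ∧
        ∀ i, ∃ (O : X.Opens) (h : O ≤ (D.pull (fib p b s₁ h₁)).W), y i ∈ O ∧
          Etale (X.homOfLE h ≫ (D.pull (fib p b s₁ h₁)).Φ)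

/-- **(b)** Two étale maps to `𝔸^d` vanishing at `x` are connected by a family of maps with the only
zero `x`. -/
def StmtB : Prop :=
  ∀ {X : Scheme.{u}} (p : X ⟶ Spec (CommRingCat.of k)) [IsSeparated p] (d : ℕ) (N : X.Opens)
    (t t' : N.toScheme ⟶ Aff k d) [Etale t] [Etale t'] (_ : t ≫ Aff.str k d = N.ι ≫ p)
    (_ : t' ≫ Aff.str k d = N.ι ≫ p) (x : N) (_ : x ∈ zeros t) (_ : x ∈ zeros t'),
    ∃ (S : Scheme.{u}) (b : S ⟶ Spec (CommRingCat.of k)) (_ : LocallyOfFiniteType b)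
      (_ : ConnectedSpace S) (D : Dat (pullback.fst p b ≫ p) d) (s₀ s₁ : Spec (CommRingCat.of k) ⟶ S)
      (h₀ : s₀ ≫ b = 𝟙 _) (h₁ : s₁ ≫ b = 𝟙 _),
      (D.pull (fib p b s₀ h₀)).Z = {(x : X)} ∧ (D.pull (fib p b s₀ h₀)).Of N t ∧
      (D.pull (fib p b s₁ h₁)).Z = {(x : X)} ∧ (D.pull (fib p b s₁ h₁)).Of N t'

/-- The graph `N ⟶ X × N` of the inclusion of an open `N` of `X`. -/
def graph {k : Type u} [Field k] {X : Scheme.{u}} (p : X ⟶ Spec (CommRingCat.of k)) (N : X.Opens) :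
    N.toScheme ⟶ pullback p (N.ι ≫ p) :=
  pullback.lift N.ι (𝟙 _) (Category.id_comp _).symm

/-- **(c)** The translates `t - t(s)` of étale coordinates `t : N ⟶ 𝔸^d` form a datum on `X × N`, the zero
set of which is the graph of `N ⟶ X`. -/
def StmtC : Prop :=
  ∀ {X : Scheme.{u}} (p : X ⟶ Spec (CommRingCat.of k)) [IsSeparated p] (d : ℕ) (N : X.Opens)
    (t : N.toScheme ⟶ Aff k d) [Etale t] (_ : t ≫ Aff.str k d = N.ι ≫ p),
    ∃ (D : Dat (pullback.fst p (N.ι ≫ p) ≫ p) d) (h : D.W ≤ pullback.fst p (N.ι ≫ p) ⁻¹ᵁ N),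
      D.Φ = sub ((pullback p (N.ι ≫ p)).homOfLE h ≫ (pullback.fst p (N.ι ≫ p) ∣_ N) ≫ t)
        (D.W.ι ≫ pullback.snd p (N.ι ≫ p) ≫ t) ∧
      D.Z = Set.range (graph p N) ∧
      ∀ (s : Spec (CommRingCat.of k) ⟶ N.toScheme) (hs : s ≫ N.ι ≫ p = 𝟙 _),
        (D.pull (fib p (N.ι ≫ p) s hs)).Z = Set.range (s ≫ N.ι) ∧
        (D.pull (fib p (N.ι ≫ p) s hs)).Of N (sub t ((N.ι ≫ p) ≫ s ≫ t))

/-- **(d)** The number of fixed points in terms of local coordinates: `Fix f` is the (finite) set of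
fixed points, `U x` an open neighbourhood of `x` with étale coordinates `t x`, `N x ⊆ U x ∩ f⁻¹ (U x)` an
open neighbourhood on which `t x - t x ∘ f` has the only zero `x`. -/
def StmtD : Prop :=
  ∀ {X : Scheme.{u}} (p : X ⟶ Spec (CommRingCat.of k)) [IsSeparated p] (f : X ⟶ X) (hf : f ≫ p = p)
    [IsFinite (FinFr.fixSchemeTo p f hf)] (d : ℕ)
    (ι : Type) [Fintype ι] (x : ι → X) (_ : Function.Injective x)
    (_ : Set.range x = Set.range (pullback.fst (pullback.lift (𝟙 X) f (by rw [hf, Category.id_comp]) :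
      X ⟶ pullback p p) (pullback.lift (𝟙 X) (𝟙 X) rfl : X ⟶ pullback p p)))
    (U : ι → X.Opens) (t : ∀ i, (U i).toScheme ⟶ Aff k d) [∀ i, Etale (t i)]
    (_ : ∀ i, t i ≫ Aff.str k d = (U i).ι ≫ p) (N : ι → X.Opens) (_ : ∀ i, x i ∈ N i)
    (h₁ : ∀ i, N i ≤ U i) (h₂ : ∀ i, N i ≤ f ⁻¹ᵁ U i)
    (_ : ∀ i, (N i).ι '' zeros (sub (X.homOfLE (h₁ i) ≫ t i) (X.homOfLE (h₂ i) ≫ (f ∣_ U i) ≫ t i)) =
      {x i}),
    FinFr.fixCount p f hf = ∑ i, mult
      (sub (X.homOfLE (h₁ i) ≫ t i) (X.homOfLE (h₂ i) ≫ (f ∣_ U i) ≫ t i))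

end

end Groth.Agent.Sga4h.H13
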